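import Cfsg.Agent.Lib.SpecTri.CaseTwo

/-!
The case where the Fitting subgroup is a `p`-group: three primes act faithfully.
-/

set_option autoImplicit false

namespace Cfsg.Agent.SpecTri

universe u

variable {G : Type u} [Group G] [Finite G]

/-- A subgroup without elements of prime order is trivial. -/
theorem eq_bot_of_no_prime {U : Subgroup G}
    (h : ∀ t : ℕ, t.Prime → ∀ x ∈ U, orderOf x = t → False) : U = ⊥ := by
  by_contra hne
  obtain ⟨t, ht, hd⟩ := Nat.exists_prime_and_dvd (fun h1 => hne (Subgroup.card_eq_one.1 h1))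
  have := Fact.mk ht
  obtain ⟨x, hx⟩ := exists_prime_orderOf_dvd_card' (G := U) t hd
  exact h t ht x x.2 (by rw [Subgroup.orderOf_coe, hx])

theorem prime_dvd_card_of_mem {L : Subgroup G} {x : G} (hx : x ∈ L) {t : ℕ} (hxo : orderOf x = t) :
    t ∣ Nat.card L :=
  hxo ▸ (Nat.card_zpowers x ▸ Subgroup.card_dvd_of_le (Subgroup.zpowers_le.2 hx))

variable (hT : NoTriple G) {p : ℕ} [Fact p.Prime] {P K : Subgroup G} (hP : IsPGroup p P)
  (hKP : K ≤ Subgroup.normalizer (P : Set G))
  (hfaith : ∀ c ∈ K, c ∈ Subgroup.centralizer (P : Set G) → c = 1)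

include hT hP hKP hfaith

/-- One nontrivial core. -/
theorem one_core_false {q r s : ℕ} [Fact q.Prime] [Fact r.Prime] [Fact s.Prime] (hpq : p ≠ q)
    (hpr : p ≠ r) (hps : p ≠ s) (hqr : q ≠ r) (hqs : q ≠ s) (hrs : r ≠ s) [Group.IsSolvable K]
    (hKS : PrimesIn {q, r, s} K) (hR : core r K = ⊥) (hS : core s K = ⊥) (hQne : core q K ≠ ⊥)
    (hpair : ∃ a ∈ K, ∃ b ∈ K, orderOf a = r ∧ orderOf b = s ∧ a * b = b * a)
    {X Y : Subgroup G} (hXK : X ≤ K) (hX : Plane r X) (hYK : Y ≤ K) (hY : Plane s Y) : False := by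
  set Q := core q K with hQd
  have hQp : IsPGroup q Q := core_isPGroup q K
  have hQK : Q ≤ K := core_le q K
  have hQP : Q ≤ Subgroup.normalizer (P : Set G) := hQK.trans hKP
  have hQfaith : ∀ t : ℕ, t.Prime → (t = r ∨ t = s) → ∀ x ∈ K, orderOf x = t →
      (∀ m ∈ Q, x * m = m * x) → False := by
    intro t ht htrs x hx hxo hc
    have := Fact.mk ht
    have hbot : core t K = ⊥ := by rcases htrs with rfl | rfl <;> assumption
    have h := mem_core_of_central hx hxo (core_commute_all hKS fun u hu _ m hm => by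
      simp only [Finset.mem_insert, Finset.mem_singleton] at hu
      rcases hu with rfl | rfl | rfl
      · exact hc m hm
      · rw [hR, Subgroup.mem_bot] at hm; rw [hm, mul_one, one_mul]
      · rw [hS, Subgroup.mem_bot] at hm; rw [hm, mul_one, one_mul])
    rw [hbot, Subgroup.mem_bot] at h
    rw [h, orderOf_one] at hxo
    exact ht.ne_one hxo.symm
  obtain ⟨L, hLK, hLS, hLH⟩ := exists_hall_primes K ({r, s} : Finset ℕ)
  have : Group.IsSolvable L := Group.isSolvable_of_isSolvable_injective (Subgroup.inclusion_injective hLK)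
  have hLQ : L ≤ Subgroup.normalizer (Q : Set G) := hLK.trans (le_normalizer_core q K)
  have hLP : L ≤ Subgroup.normalizer (P : Set G) := hLK.trans hKP
  have hLfaith : ∀ c ∈ L, c ∈ Subgroup.centralizer (Q : Set G) → c = 1 := by
    intro c hcL hc
    have hbot : L ⊓ Subgroup.centralizer (Q : Set G) = ⊥ := eq_bot_of_no_prime fun t ht x hx hxo => by
      have hd : t ∣ Nat.card L := prime_dvd_card_of_mem hx.1 hxo
      have h := hLS t ht hd
      simp only [Finset.mem_insert, Finset.mem_singleton] at h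
      exact hQfaith t ht h x (hLK hx.1) hxo fun m hm => (Subgroup.mem_centralizer_iff.1 hx.2 m hm).symm
    exact Subgroup.mem_bot.1 (hbot ▸ Subgroup.mem_inf.2 ⟨hcL, hc⟩)
  obtain ⟨X', hX'L, hX'⟩ := plane_in hLH (Fact.out : r.Prime) (by simp) hXK hX
  obtain ⟨Y', hY'L, hY'⟩ := plane_in hLH (Fact.out : s.Prime) (by simp) hYK hY
  -- types of paired elements
  have htype : ∀ {r s : ℕ} [Fact r.Prime] [Fact s.Prime], p ≠ r → p ≠ s → q ≠ r → q ≠ s → r ≠ s →
      ∀ a ∈ L, ∀ b ∈ L, orderOf a = r → orderOf b = s → a * b = b * a →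
      (Fixes Q a → ¬ Fixes P a) ∧ (¬ Fixes Q a → Fixes P a) ∧ (Fixes Q a → ¬ Fixes Q b) ∧
        (¬ Fixes Q a → Fixes Q b) := by
    intro r s _ _ hpr hps hqr hqs hrs a ha b hb hao hbo hab
    refine ⟨fun h h' => fix_fix_false hT Fact.out Fact.out hpq hpr hps hqr hqs hrs hQp hP hQP hao hbo hab
      (hLQ hb) (hLP hb) h h', fun h => ?_, fun h h' => ?_, fun h => ?_⟩
    · by_contra h'
      obtain ⟨e, he⟩ := hQp.exists_card_eq
      have hle := frob_prime Fact.out hpr.symm Q P a hao (hLQ ha) (hLP ha) hQP hP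
        (he ▸ ((Nat.coprime_primes Fact.out Fact.out).2 hpq.symm).pow_left e) h h'
      exact hQne ((Subgroup.eq_bot_iff_forall _).2 fun c hc => hfaith c (hQK hc) (hle hc))
    · have hfb : ¬ Fixes P b := fun hf =>
        fix_fix_false hT Fact.out Fact.out hpq hps hpr hqs hqr hrs.symm hQp hP hQP hbo hao hab.symm
          (hLQ ha) (hLP ha) h' hf
      obtain ⟨e, he⟩ := (hQp.to_le (fixIn_le Q a)).exists_card_eq
      have hle := frob_prime Fact.out hps.symm (fixIn Q a) P b hbo (normalizes_fixIn (hLQ hb) hab.symm)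
        (hLP hb) ((fixIn_le Q a).trans hQP) hP
        (he ▸ ((Nat.coprime_primes Fact.out Fact.out).2 hpq.symm).pow_left e)
        (no_common hT Fact.out Fact.out hqr hqs hrs hQp hao hbo hab) hfb
      exact fixIn_ne_bot h ((Subgroup.eq_bot_iff_forall _).2 fun c hc =>
        hfaith c (hQK (fixIn_le Q a hc)) (hle hc))
    · by_contra h'
      have hle := fpf_fpf_trivial hT Fact.out Fact.out hpq hpr hps hrs hQp hP hQP hao hbo hab (hLQ ha)
        (hLQ hb) (hLP ha) (hLP hb) h h'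
      exact hQne ((Subgroup.eq_bot_iff_forall _).2 fun c hc => hfaith c (hQK hc) (hle hc))
  -- the fixing member forces `q = 2`
  have hq2 : ∀ {r s : ℕ} [Fact r.Prime] [Fact s.Prime], p ≠ r → p ≠ s → q ≠ r → q ≠ s → r ≠ s →
      (∀ x ∈ K, orderOf x = r → (∀ m ∈ Q, x * m = m * x) → False) →
      ∀ a ∈ L, ∀ b ∈ L, orderOf a = r → orderOf b = s → a * b = b * a → Fixes Q a → q = 2 := by
    intro r s _ _ hpr hps hqr hqs hrs hcr a ha b hb hao hbo hab h
    by_contra hq
    exact hcr a (hLK ha) hao (commute_of_fpf Fact.out Fact.out hpq hpr hqr hq hao hQp (hLQ ha) (hLP ha)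
      hQP hP ((htype hpr hps hqr hqs hrs a ha b hb hao hbo hab).1 h) fun c hc => hfaith c (hQK hc))
  -- both cores are nontrivial
  have hcores : ∀ {r s : ℕ} [Fact r.Prime] [Fact s.Prime], p ≠ r → p ≠ s → q ≠ r → q ≠ s → r ≠ s →
      r ≠ 2 → s ≠ 2 → PrimesIn {r, s} L →
      ∀ a ∈ L, ∀ b ∈ L, orderOf a = r → orderOf b = s → a * b = b * a → Fixes Q a →
      core r L ≠ ⊥ ∧ core s L ≠ ⊥ := by
    intro r s _ _ hpr hps hqr hqs hrs hr2 hs2 hLS a ha b hb hao hbo hab h
    obtain ⟨h1, -, h3, -⟩ := htype hpr hps hqr hqs hrs a ha b hb hao hbo hab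
    have hca : ∀ m ∈ core s L, a * m = m * a := commute_of_fpf Fact.out Fact.out hps hpr hrs.symm hs2 hao
      (core_isPGroup s L) (le_normalizer_core s L ha) (hLP ha) ((core_le s L).trans hLP) hP (h1 h)
      fun c hc => hfaith c (hLK (core_le s L hc))
    have hcb : ∀ m ∈ core r L, b * m = m * b := commute_of_fpf Fact.out Fact.out hqr hqs hrs hr2 hbo
      (core_isPGroup r L) (le_normalizer_core r L hb) (hLQ hb) ((core_le r L).trans hLQ) hQp (h3 h)
      fun c hc => hLfaith c (core_le r L hc)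
    have fin : ∀ {t t' : ℕ} [Fact t.Prime], PrimesIn {t, t'} L → ∀ x ∈ L, orderOf x = t →
        (∀ m ∈ core t' L, x * m = m * x) → core t L ≠ ⊥ := by
      intro t t' _ hS x hx hxo hc hbot
      have h := mem_core_of_central hx hxo (core_commute_all hS fun u hu _ m hm => by
        simp only [Finset.mem_insert, Finset.mem_singleton] at hu
        rcases hu with rfl | rfl
        · rw [hbot, Subgroup.mem_bot] at hm; rw [hm, mul_one, one_mul]
        · exact hc m hm)
      rw [hbot, Subgroup.mem_bot] at h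
      rw [h, orderOf_one] at hxo
      exact (Fact.out : t.Prime).ne_one hxo.symm
    exact ⟨fin hLS a ha hao hca, fin (Finset.pair_comm r s ▸ hLS) b hb hbo hcb⟩
  have hcyc : ∀ {r s : ℕ} [Fact r.Prime] [Fact s.Prime], p ≠ r → p ≠ s → q ≠ r → q ≠ s → r ≠ s →
      r ≠ 2 → s ≠ 2 →
      ∀ x ∈ core r L, ∀ y ∈ core s L, orderOf x = r → orderOf y = s → Fixes Q x →
      IsCyclic (core r L) ∧ IsCyclic (core s L) := by
    intro r s _ _ hpr hps hqr hqs hrs hr2 hs2 x hx y hy hxo hyo h
    have hxy : x * y = y * x := core_commute Fact.out Fact.out hrs hx hy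
    have hxL := core_le r L hx
    have hyL := core_le s L hy
    obtain ⟨-, -, h3, -⟩ := htype hpr hps hqr hqs hrs x hxL y hyL hxo hyo hxy
    have hPy : Fixes P y := (htype hps hpr hqs hqr hrs.symm y hyL x hxL hyo hxo hxy.symm).2.1 (h3 h)
    have fin : ∀ {t t' p : ℕ} [Fact t.Prime] [Fact t'.Prime] [Fact p.Prime] {M : Subgroup G},
        t ≠ t' → p ≠ t → p ≠ t' → t ≠ 2 → IsPGroup p M → L ≤ Subgroup.normalizer (M : Set G) →
        ∀ z ∈ core t' L, orderOf z = t' → Fixes M z → IsCyclic (core t L) := by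
      intro t t' p _ _ _ M htt hpt hpt' ht2 hM hLM z hz hzo hf
      by_contra hc
      obtain ⟨E, hEle, hE⟩ := exists_plane ht2 (core_isPGroup t L) hc
      have hEz : ∀ e ∈ E, e * z = z * e := fun e he => core_commute Fact.out Fact.out htt (hEle he) hz
      obtain ⟨e, he, he1, hef⟩ := hE.exists_fixes hpt
        (fun e he => normalizes_fixIn (hLM (core_le t L (hEle he))) (hEz e he))
        (hM.to_le (fixIn_le M z)) (fixIn_ne_bot hf)
      exact no_common hT Fact.out Fact.out hpt' hpt htt.symm hM hzo (hE.orderOf_eq he he1)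
        (hEz e he).symm hef
    exact ⟨fin hrs hpr hps hr2 hP hLP y hy hyo hPy, fin hrs.symm hqs hqr hs2 hQp hLQ x hx hxo h⟩
  -- conclusion
  obtain ⟨a₀, ha₀, b₀, hb₀, ha₀o, hb₀o, hab₀⟩ := hpair
  obtain ⟨k, -, haL, hbL, hao, hbo, hab⟩ := pair_in hLH ha₀ hb₀ (Fact.out : r.Prime) (Fact.out : s.Prime)
    ha₀o hb₀o (by simp) (by simp) hab₀
  set a := k * a₀ * k⁻¹
  set b := k * b₀ * k⁻¹
  have hqeq : q = 2 := by
    by_cases h : Fixes Q a
    · exact hq2 hpr hps hqr hqs hrs (hQfaith r Fact.out (Or.inl rfl)) a haL b hbL hao hbo hab h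
    · exact hq2 hps hpr hqs hqr hrs.symm (hQfaith s Fact.out (Or.inr rfl)) b hbL a haL hbo hao hab.symm
        ((htype hpr hps hqr hqs hrs a haL b hbL hao hbo hab).2.2.2 h)
  have hr2 : r ≠ 2 := fun h => hqr (hqeq.trans h.symm)
  have hs2 : s ≠ 2 := fun h => hqs (hqeq.trans h.symm)
  have hne : core r L ≠ ⊥ ∧ core s L ≠ ⊥ := by
    by_cases h : Fixes Q a
    · exact hcores hpr hps hqr hqs hrs hr2 hs2 hLS a haL b hbL hao hbo hab h
    · exact (hcores hps hpr hqs hqr hrs.symm hs2 hr2 (Finset.pair_comm r s ▸ hLS) b hbL a haL hbo hao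
        hab.symm ((htype hpr hps hqr hqs hrs a haL b hbL hao hbo hab).2.2.2 h)).symm
  obtain ⟨x, hx, hxo⟩ := exists_prime_elt (core_isPGroup r L) hne.1
  obtain ⟨y, hy, hyo⟩ := exists_prime_elt (core_isPGroup s L) hne.2
  have hxy : x * y = y * x := core_commute Fact.out Fact.out hrs hx hy
  have hc : IsCyclic (core r L) ∧ IsCyclic (core s L) := by
    by_cases h : Fixes Q x
    · exact hcyc hpr hps hqr hqs hrs hr2 hs2 x hx y hy hxo hyo h
    · exact (hcyc hps hpr hqs hqr hrs.symm hs2 hr2 y hy x hx hyo hxo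
        ((htype hpr hps hqr hqs hrs x (core_le r L hx) y (core_le s L hy) hxo hyo hxy).2.2.2 h)).symm
  exact cyclic_cores_false hrs hLS hc.1 hc.2 hX'L hX' hY'L hY'

/-- An element fixing points of one core fixes nothing in `P` with a third prime. -/
theorem fpf_of_fix {q r s : ℕ} [Fact q.Prime] [Fact r.Prime] [Fact s.Prime] (hpq : p ≠ q) (hpr : p ≠ r)
    (hps : p ≠ s) (hqr : q ≠ r) (hqs : q ≠ s) (hrs : r ≠ s) (hRne : core r K ≠ ⊥) {y u : G} (hy : y ∈ K)
    (hyo : orderOf y = s) (hu : u ∈ core q K) (huo : orderOf u = q) (hc : u * y = y * u) :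
    ¬ Fixes P u := by
  intro hf
  set R := core r K with hR
  have hRu : ∀ g ∈ R, g * u = u * g := fun g hg => core_commute Fact.out Fact.out hqr.symm hg hu
  obtain ⟨e, he⟩ := (core_isPGroup r K).exists_card_eq
  have hle := frob_prime Fact.out hps.symm R (fixIn P u) y hyo (le_normalizer_core r K hy)
    (normalizes_fixIn (hKP hy) hc.symm) (fun g hg => normalizes_fixIn (hKP (core_le r K hg)) (hRu g hg))
    (hP.to_le (fixIn_le P u)) (he ▸ ((Nat.coprime_primes Fact.out Fact.out).2 hpr.symm).pow_left e)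
    (fun h => by
      obtain ⟨w, hw, hwo, hwc⟩ := fixes_order (core_isPGroup r K) h
      exact hT q s r Fact.out Fact.out Fact.out hqs hrs.symm hqr u y w huo hyo hwo hc hwc (hRu w hw).symm)
    (no_common hT Fact.out Fact.out hpq hps hqs hP huo hyo hc)
  obtain ⟨m, hm, hmo, hmc⟩ := fixes_order hP hf
  obtain ⟨w, hw, hwo⟩ := exists_prime_elt (core_isPGroup r K) hRne
  exact hT q r p Fact.out Fact.out Fact.out hqr hpr.symm hpq.symm u w m huo hwo hmo (hRu w hw).symm
    (Subgroup.mem_centralizer_iff.1 (hle hw) m (mem_fixIn.2 ⟨hm, hmc⟩)).symm hmc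

/-- A fixed point free involution in a core is central, so there are none. -/
theorem core_prime_odd {q r s : ℕ} [Fact q.Prime] [Fact r.Prime] [Fact s.Prime] (hqr : q ≠ r) (hqs : q ≠ s)
    (hrs : r ≠ s) {u : G} (hu : u ∈ K) (huo : orderOf u = q) (hf : ¬ Fixes P u)
    (hpair : ∃ a ∈ K, ∃ b ∈ K, orderOf a = r ∧ orderOf b = s ∧ a * b = b * a) : q ≠ 2 := by
  intro hq
  subst hq
  have hinv := inverts (by rw [← sq, ← huo, pow_orderOf_eq_one]) (hKP hu) hf
  have hc : ∀ k ∈ K, u * k = k * u := fun k hk => commutatorElement_eq_one_iff_mul_comm.1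
    (hfaith _ (mul_mem (mul_mem (mul_mem hu hk) (inv_mem hu)) (inv_mem hk))
      (comm_mem_centralizer hinv (hKP hk)))
  obtain ⟨a, ha, b, hb, hao, hbo, hab⟩ := hpair
  exact hT 2 r s Fact.out Fact.out Fact.out hqr hrs hqs u a b huo hao hbo (hc a ha) hab (hc b hb)

/-- Two nontrivial cores, one of them cyclic. -/
theorem two_cores_cyclic_false {q r s : ℕ} [Fact q.Prime] [Fact r.Prime] [Fact s.Prime] (hpq : p ≠ q)
    (hpr : p ≠ r) (hps : p ≠ s) (hqr : q ≠ r) (hqs : q ≠ s) (hrs : r ≠ s) (hq2 : q ≠ 2) (hr2 : r ≠ 2)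
    [Group.IsSolvable K] (hKS : PrimesIn {q, r, s} K) (hS : core s K = ⊥) (hQne : core q K ≠ ⊥)
    (hRne : core r K ≠ ⊥) (hRc : IsCyclic (core r K))
    {X Y : Subgroup G} (hXK : X ≤ K) (hX : Plane r X) (hYK : Y ≤ K) (hY : Plane s Y) : False := by
  set Q := core q K with hQd
  set R := core r K with hRd
  have hQp : IsPGroup q Q := core_isPGroup q K
  have hRp : IsPGroup r R := core_isPGroup r K
  have hQK : Q ≤ K := core_le q K
  have hRK : R ≤ K := core_le r K
  have hKQ : K ≤ Subgroup.normalizer (Q : Set G) := le_normalizer_core q K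
  have hKR : K ≤ Subgroup.normalizer (R : Set G) := le_normalizer_core r K
  obtain ⟨w, hw, hwo⟩ := exists_prime_elt hRp hRne
  have hwK := hRK hw
  -- `r`-elements centralising the `q`-core lie in the `r`-core
  have hCQ : ∀ c ∈ K, orderOf c = r → (∀ m ∈ Q, c * m = m * c) → c ∈ R := by
    intro c hc hco h
    refine mem_core_of_cyclic hRc hc hco fun t ht htr m hm => ?_
    by_cases hd : t ∣ Nat.card K
    · have h' := hKS t ht hd
      simp only [Finset.mem_insert, Finset.mem_singleton] at h'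
      rcases h' with rfl | rfl | rfl
      · exact h m hm
      · exact absurd rfl htr
      · rw [hS, Subgroup.mem_bot] at hm; rw [hm, mul_one, one_mul]
    · rw [core_eq_bot_of_not_dvd ht hd, Subgroup.mem_bot] at hm; rw [hm, mul_one, one_mul]
  have hnoQ : ∀ z ∈ K, orderOf z = s → z * w = w * z → ¬ Fixes Q z := fun z _ hzo hzw hf => by
    obtain ⟨u, hu, huo, huc⟩ := fixes_order hQp hf
    exact hT s r q Fact.out Fact.out Fact.out hrs.symm hqr.symm hqs.symm z w u hzo hwo huo hzw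
      (core_commute Fact.out Fact.out hqr.symm hw hu) huc
  -- some element of order `s` centralises the `r`-core, another moves it
  obtain ⟨y', hy', hy'1, hy'f⟩ := hY.exists_fixes hrs (hYK.trans hKR) hRp hRne
  have hy'o := hY.orderOf_eq hy' hy'1
  have hy'R := commute_cyclic hrs hRc hRp hy'o (hKR (hYK hy')) hy'f
  obtain ⟨y, hy, hy1, hyf⟩ := hY.exists_fixes hqs (hYK.trans hKQ) hQp hQne
  have hyo := hY.orderOf_eq hy hy1
  have hyw : y * w ≠ w * y := fun h => hnoQ y (hYK hy) hyo h hyf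
  have hsr : s < r := lt_of_not_commute hRc hrs.symm hRp hyo (hKR (hYK hy)) ⟨w, hw, hyw⟩
  -- elements of order `r` centralise `w`
  obtain ⟨x₀, hx₀, hx₀o, hx₀R⟩ := plane_not_le_cyclic hX hRc
  have hnw : ∀ g ∈ K, g ∈ Subgroup.normalizer (Subgroup.zpowers w : Set G) := by
    intro g hg
    refine Subgroup.mem_normalizer_iff_map_conj_eq.2 (Subgroup.eq_of_le_of_card_ge ?_ ?_)
    · rw [MonoidHom.map_zpowers]
      exact Subgroup.zpowers_le.2 (zpowers_eq_of_cyclic hRc hw (conj_mem (hKR hg) hw) hwo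
        ((MulEquiv.orderOf_eq (MulAut.conj g) w).trans hwo))
    · rw [Subgroup.card_map_of_injective (MulAut.conj g).injective]
  have hx₀w : x₀ * w = w * x₀ := commute_of_normalizes_prime hx₀o hwo (hnw _ (hXK hx₀))
  set D : Subgroup G := K ⊓ Subgroup.centralizer {w} with hD
  have : Group.IsSolvable D :=
    Group.isSolvable_of_isSolvable_injective (Subgroup.inclusion_injective (inf_le_left : D ≤ K))
  obtain ⟨T, hTD, hTS, hTH⟩ := exists_hall_primes D ({r, s} : Finset ℕ)
  have : Group.IsSolvable T := Group.isSolvable_of_isSolvable_injective (Subgroup.inclusion_injective hTD)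
  have hTK : T ≤ K := hTD.trans inf_le_left
  have hTw : ∀ g ∈ T, g * w = w * g := fun g hg => Subgroup.mem_centralizer_singleton_iff.1 (hTD hg).2
  have hcon : ∀ {z : G} {t : ℕ}, t.Prime → t ∈ ({r, s} : Finset ℕ) → z ∈ K → z * w = w * z →
      orderOf z = t → ∃ k ∈ K, k * z * k⁻¹ ∈ T := by
    intro z t ht htS hzK hzw hzo
    obtain ⟨k, hk, hkT⟩ := hTH (Subgroup.zpowers z)
      (Subgroup.zpowers_le.2 ⟨hzK, Subgroup.mem_centralizer_singleton_iff.2 hzw⟩) fun u hu hd => by
      rw [Nat.card_zpowers, hzo] at hd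
      exact (Nat.prime_dvd_prime_iff_eq hu ht).1 hd ▸ htS
    exact ⟨k, hk.1, hkT z (Subgroup.mem_zpowers z)⟩
  obtain ⟨k₁, hk₁, hzT⟩ := hcon (Fact.out : s.Prime) (by simp) (hYK hy') (hy'R w hw) hy'o
  obtain ⟨k₂, hk₂, hxT⟩ := hcon (Fact.out : r.Prime) (by simp) (hXK hx₀) hx₀w hx₀o
  set z := k₁ * y' * k₁⁻¹ with hzd
  set x := k₂ * x₀ * k₂⁻¹ with hxd
  have hzo : orderOf z = s := by rw [hzd, ← MulAut.conj_apply, MulEquiv.orderOf_eq, hy'o]
  have hxo : orderOf x = r := by rw [hxd, ← MulAut.conj_apply, MulEquiv.orderOf_eq, hx₀o]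
  have hxR : x ∉ R := fun h => hx₀R ((Subgroup.mem_normalizer_iff.1 (hKR hk₂) x₀).2 h)
  have hzR : ∀ m ∈ R, z * m = m * z :=
    commute_cyclic hrs hRc hRp hzo (hKR (hTK hzT))
      ⟨w, hw, fun h => (Fact.out : r.Prime).ne_one (by rw [← hwo, h, orderOf_one]), hTw z hzT⟩
  -- the `s`-core of `T`
  have hT0 : core s T ≠ ⊥ := by
    intro hbot
    set B := core r T with hB
    have hzB : z ∈ Subgroup.normalizer (B : Set G) := le_normalizer_core r T hzT
    have hd := odd_centralizes Fact.out Fact.out hqr hqs hrs hr2 B Q z hzo (core_isPGroup r T) hzB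
      (hKQ (hTK hzT)) ((core_le r T).trans (hTK.trans hKQ)) hQp (hnoQ z (hTK hzT) hzo (hTw z hzT))
    set B' := ⁅B, Subgroup.zpowers z⁆ with hB'
    have hB'B : B' ≤ B := CoprimeAct.commutator_le_left (Subgroup.zpowers_le.2 hzB)
    have hB'p : IsPGroup r B' := (core_isPGroup r T).to_le hB'B
    have hB'K : B' ≤ K := hB'B.trans ((core_le r T).trans hTK)
    have hB'R : ∀ c ∈ B', orderOf c = r → c ∈ R := fun c hc hco =>
      hCQ c (hB'K hc) hco fun m hm => (Subgroup.mem_centralizer_iff.1 (hd hc) m hm).symm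
    have hb : B' = ⊥ := by
      by_contra hne
      obtain ⟨c, hc, hco⟩ := exists_prime_elt hB'p hne
      have hcyc : IsCyclic B' := by
        by_contra hnc
        obtain ⟨E, hEle, hE⟩ := exists_plane hr2 hB'p hnc
        obtain ⟨e, he, heo, heR⟩ := plane_not_le_cyclic hE hRc
        exact heR (hB'R e (hEle he) heo)
      have hzn : Subgroup.zpowers z ≤ Subgroup.normalizer (B' : Set G) :=
        Subgroup.normalizer_commutator_ge_right B (Subgroup.zpowers z)
      have hfix : Fixes B' z := ⟨c, hc, fun h => (Fact.out : r.Prime).ne_one (by rw [← hco, h, orderOf_one]),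
        hzR c (hB'R c hc hco)⟩
      have hall := commute_cyclic hrs hcyc hB'p hzo (hzn (Subgroup.mem_zpowers z)) hfix
      obtain ⟨e, he⟩ := (core_isPGroup r T).exists_card_eq
      have hcc := CoprimeAct.commutator_commutator (K := B) (Subgroup.zpowers_le.2 hzB)
        (by rw [Nat.card_zpowers, hzo, he]; exact ((Nat.coprime_primes Fact.out Fact.out).2 hrs.symm).pow_right e)
        (Or.inl (Group.isSolvable_of_comm fun a b => mul_comm' a b))
      refine hne (hcc.symm.trans (Subgroup.commutator_eq_bot_iff_le_centralizer.2 fun m hm => ?_))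
      exact Subgroup.mem_centralizer_iff.2 fun v hv => ((comm_of_zpowers (hall m hm).symm hv)).symm
    have h := mem_core_of_central hzT hzo (core_commute_all hTS fun u hu _ m hm => by
      simp only [Finset.mem_insert, Finset.mem_singleton] at hu
      rcases hu with rfl | rfl
      · exact Subgroup.mem_centralizer_iff.1
          (Subgroup.commutator_eq_bot_iff_le_centralizer.1 hb hm) z (Subgroup.mem_zpowers z)
      · rw [hbot, Subgroup.mem_bot] at hm; rw [hm, mul_one, one_mul])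
    rw [hbot, Subgroup.mem_bot] at h
    rw [h, orderOf_one] at hzo
    exact (Fact.out : s.Prime).ne_one hzo.symm
  -- a normal subgroup of order `s`
  have hnt : Nontrivial (core s T) := (Subgroup.nontrivial_iff_ne_bot _).2 hT0
  have hcn := (core_isPGroup s T).center_nontrivial
  obtain ⟨_, ⟨y₀, hy₀c, rfl⟩, hy₀o⟩ := exists_prime_elt (p := s)
    (M := (Subgroup.center (core s T)).map (core s T).subtype)
    (((core_isPGroup s T).to_subgroup _).map _) (fun h => by
      obtain ⟨⟨v, hv⟩, hv1⟩ := exists_ne (1 : Subgroup.center (core s T))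
      have h2 := Subgroup.mem_map_of_mem (core s T).subtype hv
      rw [h, Subgroup.mem_bot] at h2
      exact hv1 (Subtype.ext (Subtype.ext h2)))
  have hy₀T : (y₀ : G) ∈ T := core_le s T y₀.2
  have hfpf₀ : ¬ Fixes Q (y₀ : G) := hnoQ _ (hTK hy₀T) hy₀o (hTw _ hy₀T)
  have huniq : ∀ v ∈ core s T, orderOf v = s → v ∈ Subgroup.zpowers (y₀ : G) := by
    intro v hv hvo
    by_contra hne
    have hE := plane_of_pair hy₀o hvo
      (congrArg Subtype.val (Subgroup.mem_center_iff.1 hy₀c ⟨v, hv⟩)).symm hne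
    have hEle : Subgroup.zpowers (y₀ : G) ⊔ Subgroup.zpowers v ≤ T :=
      sup_le (Subgroup.zpowers_le.2 hy₀T) (Subgroup.zpowers_le.2 (core_le s T hv))
    obtain ⟨e, he, he1, hef⟩ := hE.exists_fixes hqs (hEle.trans (hTK.trans hKQ)) hQp hQne
    exact hnoQ e (hTK (hEle he)) (hE.orderOf_eq he he1) (hTw e (hEle he)) hef
  have hxy₀ : x * y₀ = y₀ * x := by
    by_contra hne
    have hn : x ∈ Subgroup.normalizer (Subgroup.zpowers (y₀ : G) : Set G) := by
      refine Subgroup.mem_normalizer_iff_map_conj_eq.2 (Subgroup.eq_of_le_of_card_ge ?_ ?_)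
      · rw [MonoidHom.map_zpowers]
        exact Subgroup.zpowers_le.2 (huniq _ (conj_mem (le_normalizer_core s T hxT) y₀.2)
          ((MulEquiv.orderOf_eq (MulAut.conj x) (y₀ : G)).trans hy₀o))
      · rw [Subgroup.card_map_of_injective (MulAut.conj x).injective]
    have hp' : IsPGroup s (Subgroup.zpowers (y₀ : G)) :=
      IsPGroup.of_card (n := 1) (by rw [Nat.card_zpowers, pow_one]; exact hy₀o)
    have hlt := lt_of_not_commute (S := Subgroup.zpowers (y₀ : G)) inferInstance hrs hp' hxo hn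
      ⟨y₀, Subgroup.mem_zpowers _, hne⟩
    omega
  -- the pair `x`, `y₀`
  have hxK := hTK hxT
  have hQP : Q ≤ Subgroup.normalizer (P : Set G) := hQK.trans hKP
  by_cases hxf : Fixes Q x
  · have hxP : ¬ Fixes P x := fun h => fix_fix_false hT Fact.out Fact.out hpq hpr hps hqr hqs hrs hQp hP hQP
      hxo hy₀o hxy₀ (hKQ (hTK hy₀T)) (hKP (hTK hy₀T)) hxf h
    exact hxR (hCQ x hxK hxo (commute_of_fpf Fact.out Fact.out hpq hpr hqr hq2 hxo hQp (hKQ hxK) (hKP hxK)
      hQP hP hxP fun c hc => hfaith c (hQK hc)))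
  · have hle := fpf_fpf_trivial hT Fact.out Fact.out hpq hpr hps hrs hQp hP hQP hxo hy₀o hxy₀ (hKQ hxK)
      (hKQ (hTK hy₀T)) (hKP hxK) (hKP (hTK hy₀T)) hxf hfpf₀
    exact hQne ((Subgroup.eq_bot_iff_forall _).2 fun c hc => hfaith c (hQK hc) (hle hc))

/-- Two nontrivial cores. -/
theorem two_cores_false {q r s : ℕ} [Fact q.Prime] [Fact r.Prime] [Fact s.Prime] (hpq : p ≠ q)
    (hpr : p ≠ r) (hps : p ≠ s) (hqr : q ≠ r) (hqs : q ≠ s) (hrs : r ≠ s) [Group.IsSolvable K]
    (hKS : PrimesIn {q, r, s} K) (hS : core s K = ⊥) (hQne : core q K ≠ ⊥) (hRne : core r K ≠ ⊥)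
    (hpq' : ∃ a ∈ K, ∃ b ∈ K, orderOf a = r ∧ orderOf b = s ∧ a * b = b * a)
    (hpr' : ∃ a ∈ K, ∃ b ∈ K, orderOf a = q ∧ orderOf b = s ∧ a * b = b * a)
    {W X Y : Subgroup G} (hWK : W ≤ K) (hW : Plane q W) (hXK : X ≤ K) (hX : Plane r X) (hYK : Y ≤ K)
    (hY : Plane s Y) : False := by
  have hodd : ∀ {q r : ℕ} [Fact q.Prime] [Fact r.Prime], p ≠ q → p ≠ r → q ≠ r → q ≠ s → r ≠ s →
      core q K ≠ ⊥ → core r K ≠ ⊥ →
      (∃ a ∈ K, ∃ b ∈ K, orderOf a = r ∧ orderOf b = s ∧ a * b = b * a) → q ≠ 2 := by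
    intro q r _ _ hpq hpr hqr hqs hrs hQne hRne hpair
    obtain ⟨y, hy, hy1, hyf⟩ := hY.exists_fixes hqs (hYK.trans (le_normalizer_core q K))
      (core_isPGroup q K) hQne
    have hyo := hY.orderOf_eq hy hy1
    obtain ⟨u, hu, huo, huc⟩ := fixes_order (core_isPGroup q K) hyf
    exact core_prime_odd hT hP hKP hfaith hqr hqs hrs (core_le q K hu) huo
      (fpf_of_fix hT hP hKP hfaith hpq hpr hps hqr hqs hrs hRne (hYK hy) hyo hu huo huc.symm) hpair
  have hq2 := hodd hpq hpr hqr hqs hrs hQne hRne hpq'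
  have hr2 := hodd hpr hpq hqr.symm hrs hqs hRne hQne hpr'
  by_cases hRc : IsCyclic (core r K)
  · exact two_cores_cyclic_false hT hP hKP hfaith hpq hpr hps hqr hqs hrs hq2 hr2 hKS hS hQne hRne hRc
      hXK hX hYK hY
  by_cases hQc : IsCyclic (core q K)
  · exact two_cores_cyclic_false hT hP hKP hfaith hpr hpq hps hqr.symm hrs hqs hr2 hq2
      (Finset.insert_comm q r ({s} : Finset ℕ) ▸ hKS) hS hRne hQne hQc hWK hW hYK hY
  obtain ⟨E, hEle, hE⟩ := exists_plane hq2 (core_isPGroup q K) hQc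
  obtain ⟨E', hE'le, hE'⟩ := exists_plane hr2 (core_isPGroup r K) hRc
  have hPne : P ≠ ⊥ := by
    intro h
    obtain ⟨u, hu, huo⟩ := exists_prime_elt (core_isPGroup q K) hQne
    have h1 := hfaith u (core_le q K hu) (by
      rw [h]
      exact Subgroup.mem_centralizer_iff.2 fun m hm => by
        rw [SetLike.mem_coe, Subgroup.mem_bot] at hm
        rw [hm, one_mul, mul_one])
    rw [h1, orderOf_one] at huo
    exact (Fact.out : q.Prime).ne_one huo.symm
  obtain ⟨e, he, he1, hef⟩ := hE.exists_fixes hpq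
    ((hEle.trans (core_le q K)).trans hKP) hP hPne
  have hcomm : ∀ f ∈ E', f * e = e * f := fun f hf =>
    core_commute Fact.out Fact.out hqr.symm (hE'le hf) (hEle he)
  obtain ⟨f, hf, hf1, hff⟩ := hE'.exists_fixes hpr
    (fun f hf => normalizes_fixIn (hKP (core_le r K (hE'le hf))) (hcomm f hf))
    (hP.to_le (fixIn_le P e)) (fixIn_ne_bot hef)
  exact no_common hT Fact.out Fact.out hpq hpr hqr hP (hE.orderOf_eq he he1) (hE'.orderOf_eq hf hf1)
    (hcomm f hf).symm hff

end Cfsg.Agent.SpecTri
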