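import Cfsg.Agent.Lib.SpecTri.Pairs

/-!
The case where the Fitting subgroup involves two of the four primes.
-/

set_option autoImplicit false
open scoped commutatorElement

namespace Cfsg.Agent.SpecTri

universe u

variable {G : Type u} [Group G] [Finite G]

/-- Two cyclic cores cannot carry planes. -/
theorem cyclic_cores_false {r s : ℕ} [Fact r.Prime] [Fact s.Prime] (hrs : r ≠ s) {L : Subgroup G}
    [Group.IsSolvable L] (hS : PrimesIn {r, s} L) (hR : IsCyclic (core r L)) (hS' : IsCyclic (core s L))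
    {X Y : Subgroup G} (hXL : X ≤ L) (hX : Plane r X) (hYL : Y ≤ L) (hY : Plane s Y) : False := by
  have aux : ∀ {a b : ℕ} [Fact a.Prime] [Fact b.Prime], a ≠ b → PrimesIn {a, b} L →
      IsCyclic (core a L) → IsCyclic (core b L) → ∀ {Z : Subgroup G}, Z ≤ L → Plane a Z → a < b := by
    intro a b _ _ hab hSab ha hb Z hZL hZ
    obtain ⟨x, hxZ, hxo, hxn⟩ := plane_not_le_cyclic hZ ha
    refine lt_of_not_commute hb hab (core_isPGroup b L) hxo (le_normalizer_core b L (hZL hxZ)) ?_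
    by_contra hall
    push Not at hall
    refine hxn (mem_core_of_cyclic ha (hZL hxZ) hxo fun t ht hta m hm => ?_)
    by_cases hd : t ∣ Nat.card L
    · have h := hSab t ht hd
      simp only [Finset.mem_insert, Finset.mem_singleton] at h
      rcases h with rfl | rfl
      · exact absurd rfl hta
      · exact hall m hm
    · rw [core_eq_bot_of_not_dvd ht hd, Subgroup.mem_bot] at hm
      rw [hm, mul_one, one_mul]
  have h1 := aux hrs hS hR hS' hXL hX
  have h2 := aux hrs.symm (Finset.pair_comm r s ▸ hS) hS' hR hYL hY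
  omega

/-- From a commutator in both kernels to commuting. -/
theorem commute_of_comm_mem {P Q : Subgroup G} {L : Subgroup G}
    (hfaith : ∀ c ∈ L, c ∈ Subgroup.centralizer (P : Set G) → c ∈ Subgroup.centralizer (Q : Set G) → c = 1)
    {a b : G} (ha : a ∈ L) (hb : b ∈ L) (hP : a * b * a⁻¹ * b⁻¹ ∈ Subgroup.centralizer (P : Set G))
    (hQ : a * b * a⁻¹ * b⁻¹ ∈ Subgroup.centralizer (Q : Set G)) : a * b = b * a :=
  commutatorElement_eq_one_iff_mul_comm.1
    (hfaith _ (mul_mem (mul_mem (mul_mem ha hb) (inv_mem ha)) (inv_mem hb)) hP hQ)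

variable (hT : NoTriple G) {p q : ℕ} [Fact p.Prime] [Fact q.Prime] (hpq : p ≠ q)
  {P Q L : Subgroup G} (hP : IsPGroup p P) (hQ : IsPGroup q Q) (hPne : P ≠ ⊥) (hQne : Q ≠ ⊥)
  (hLP : L ≤ Subgroup.normalizer (P : Set G)) (hLQ : L ≤ Subgroup.normalizer (Q : Set G))
  (hcomm : ∀ a ∈ P, ∀ b ∈ Q, a * b = b * a)
  (hfaith : ∀ c ∈ L, c ∈ Subgroup.centralizer (P : Set G) → c ∈ Subgroup.centralizer (Q : Set G) → c = 1)

include hT hpq hP hQ hcomm in
theorem not_both {t : ℕ} [Fact t.Prime] (htp : t ≠ p) (htq : t ≠ q) {x : G} (hx : orderOf x = t)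
    (h1 : Fixes P x) (h2 : Fixes Q x) : False := by
  obtain ⟨a, ha, hao, hac⟩ := fixes_order hP h1
  obtain ⟨b, hb, hbo, hbc⟩ := fixes_order hQ h2
  exact hT t p q Fact.out Fact.out Fact.out htp hpq htq x a b hx hao hbo hac (hcomm a ha b hb) hbc

include hT hpq hP hQ hPne hQne hLP hLQ hcomm hfaith

/-- The even prime. -/
theorem even_false {s : ℕ} [Fact s.Prime] (hsp : s ≠ p) (hsq : s ≠ q) (h2p : 2 ≠ p) (h2q : 2 ≠ q)
    (h2s : 2 ≠ s) {X Y : Subgroup G} (hXL : X ≤ L) (hX : Plane 2 X) (hYL : Y ≤ L) (hY : Plane s Y) :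
    False := by
  -- an involution centralising one group
  have aux : ∀ {p q : ℕ} [Fact p.Prime] [Fact q.Prime], p ≠ q → s ≠ p → s ≠ q → 2 ≠ p → 2 ≠ q →
      ∀ {P Q : Subgroup G}, IsPGroup p P → IsPGroup q Q → P ≠ ⊥ →
      L ≤ Subgroup.normalizer (P : Set G) → L ≤ Subgroup.normalizer (Q : Set G) →
      (∀ a ∈ P, ∀ b ∈ Q, a * b = b * a) →
      (∀ c ∈ L, c ∈ Subgroup.centralizer (P : Set G) → c ∈ Subgroup.centralizer (Q : Set G) → c = 1) →
      ∀ e ∈ X, e ≠ 1 → e ∈ Subgroup.centralizer (P : Set G) → False := by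
    intro p q _ _ hpq hsp hsq h2p h2q P Q hP hQ hPne hLP hLQ hcomm hfaith e heX he1 heP
    have : Fact (Nat.Prime 2) := ⟨Nat.prime_two⟩
    have heo : orderOf e = 2 := hX.orderOf_eq heX he1
    obtain ⟨m₀, hm₀, hm₀o⟩ := exists_prime_elt hP hPne
    have hfix : Fixes P e := ⟨m₀, hm₀, fun h => (Fact.out : p.Prime).ne_one (by rw [← hm₀o, h, orderOf_one]),
      (Subgroup.mem_centralizer_iff.1 heP m₀ hm₀).symm⟩
    have hQe : ¬ Fixes Q e := fun h => not_both hT hpq hP hQ hcomm h2p h2q heo hfix h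
    have hinv := inverts (by rw [← sq, ← heo, pow_orderOf_eq_one]) (hLQ (hXL heX)) hQe
    obtain ⟨y, hyY, hy1, hyf⟩ := hY.exists_fixes hsp.symm (hYL.trans hLP) hP hPne
    have hyo := hY.orderOf_eq hyY hy1
    have hey : e * y = y * e := commute_of_comm_mem hfaith (hXL heX) (hYL hyY) (by
      have h := normalizer_le_centralizer (hLP (hYL hyY)) (inv_mem heP)
      rw [show e * y * e⁻¹ * y⁻¹ = e * (y * e⁻¹ * y⁻¹) by group]
      exact mul_mem heP h) (comm_mem_centralizer hinv (hLQ (hYL hyY)))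
    obtain ⟨m, hm, hmo, hmc⟩ := fixes_order hP hyf
    exact hT 2 s p Nat.prime_two Fact.out Fact.out h2s hsp h2p e y m heo hyo hmo hey hmc
      (Subgroup.mem_centralizer_iff.1 heP m hm).symm
  have hprod : ∀ {M : Subgroup G}, L ≤ Subgroup.normalizer (M : Set G) → ∀ a ∈ X, ∀ b ∈ X,
      ¬ Fixes M a → ¬ Fixes M b → a * b ∈ Subgroup.centralizer (M : Set G) := by
    intro M hLM a ha b hb hfa hfb
    have hsq' : ∀ c ∈ X, c * c = 1 := fun c hc => by rw [← sq]; exact hX.2 c hc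
    refine Subgroup.mem_centralizer_iff.2 fun m hm => (mul_inv_eq_iff_eq_mul.1 ?_).symm
    rw [show a * b * m * (a * b)⁻¹ = a * (b * m * b⁻¹) * a⁻¹ by group,
      inverts (hsq' b hb) (hLM (hXL hb)) hfb m hm,
      inverts (hsq' a ha) (hLM (hXL ha)) hfa _ (inv_mem hm), inv_inv]
  have auxP := aux hpq hsp hsq h2p h2q hP hQ hPne hLP hLQ hcomm hfaith
  have auxQ := aux hpq.symm hsq hsp h2q h2p hQ hP hQne hLQ hLP (fun b hb a ha => (hcomm a ha b hb).symm)
    fun c hc h1 h2 => hfaith c hc h2 h1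
  have : Fact (Nat.Prime 2) := ⟨Nat.prime_two⟩
  obtain ⟨a, ha, ha1⟩ : ∃ a ∈ X, a ≠ 1 := by
    by_contra h
    push Not at h
    have h1 := hX.1
    rw [(Subgroup.eq_bot_iff_forall _).2 h, Subgroup.card_bot] at h1
    norm_num at h1
  obtain ⟨b, hb, hbn⟩ : ∃ b ∈ X, b ∉ Subgroup.zpowers a := by
    by_contra h
    push Not at h
    have h1 := Subgroup.card_le_of_le h
    rw [hX.1, Nat.card_zpowers, hX.orderOf_eq ha ha1] at h1
    norm_num at h1
  have hb1 : b ≠ 1 := fun h => hbn (h ▸ one_mem _)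
  have haa : a * a = 1 := by rw [← sq]; exact hX.2 a ha
  have hbb : b * b = 1 := by rw [← sq]; exact hX.2 b hb
  have hab1 : a * b ≠ 1 := fun h => hbn (by
    rw [eq_inv_of_mul_eq_one_right h]; exact inv_mem (Subgroup.mem_zpowers a))
  have hor : ∀ e ∈ X, e ≠ 1 → ¬ Fixes P e ∨ ¬ Fixes Q e := fun e he he1 => by
    by_contra h
    push Not at h
    exact not_both hT hpq hP hQ hcomm h2p h2q (hX.orderOf_eq he he1) h.1 h.2
  have hpr : ∀ {M : Subgroup G}, L ≤ Subgroup.normalizer (M : Set G) →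
      (∀ e ∈ X, e ≠ 1 → e ∈ Subgroup.centralizer (M : Set G) → False) →
      ∀ u ∈ X, ∀ v ∈ X, u * v ≠ 1 → ¬ Fixes M u → ¬ Fixes M v → False :=
    fun hLM hM u hu v hv h1 hfu hfv => hM _ (mul_mem hu hv) h1 (hprod hLM u hu v hv hfu hfv)
  have hba : a * (a * b) ≠ 1 := by rw [← mul_assoc, haa, one_mul]; exact hb1
  have hbab : b * (a * b) ≠ 1 := by
    rw [hX.comm a ha b hb, ← mul_assoc, hbb, one_mul]; exact ha1
  rcases hor a ha ha1 with h1 | h1 <;> rcases hor b hb hb1 with h2 | h2 <;>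
    rcases hor _ (mul_mem ha hb) hab1 with h3 | h3
  all_goals first
    | exact hpr hLP auxP a ha b hb hab1 h1 h2
    | exact hpr hLQ auxQ a ha b hb hab1 h1 h2
    | exact hpr hLP auxP a ha _ (mul_mem ha hb) hba h1 h3
    | exact hpr hLQ auxQ a ha _ (mul_mem ha hb) hba h1 h3
    | exact hpr hLP auxP b hb _ (mul_mem ha hb) hbab h2 h3
    | exact hpr hLQ auxQ b hb _ (mul_mem ha hb) hbab h2 h3

/-- A plane acting on a core: some line centralises it and fixes points. -/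
theorem exists_line {r s : ℕ} [Fact r.Prime] [Fact s.Prime] (hrs : r ≠ s) (hrp : r ≠ p) (hrq : r ≠ q)
    (hsp : s ≠ p) (hsq : s ≠ q) (hr2 : r ≠ 2) {Y : Subgroup G} (hYL : Y ≤ L) (hY : Plane s Y) :
    ∃ k ∈ Y, orderOf k = s ∧ (∀ m ∈ core r L, k * m = m * k) ∧ (Fixes P k ∨ Fixes Q k) := by
  set R := core r L with hR
  have hRL : R ≤ L := core_le r L
  have hYR : Y ≤ Subgroup.normalizer (R : Set G) := hYL.trans (le_normalizer_core r L)
  by_cases hall : ∀ y ∈ Y, ∀ m ∈ R, y * m = m * y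
  · obtain ⟨y, hy, hy1, hyf⟩ := hY.exists_fixes hsp.symm (hYL.trans hLP) hP hPne
    exact ⟨y, hy, hY.orderOf_eq hy hy1, hall y hy, Or.inl hyf⟩
  have hnil : Group.IsNilpotent R := (core_isPGroup r L).isNilpotent
  obtain ⟨e, he⟩ := (core_isPGroup r L).exists_card_eq
  have hcop : s.Coprime (Nat.card R) :=
    he ▸ ((Nat.coprime_primes Fact.out Fact.out).2 hrs.symm).pow_right e
  have hgen : ∀ T : Subgroup G, (∀ y ∈ Y, y ≠ 1 → fixIn R y ≤ T) → R ≤ T := fun T h =>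
    CoprimeAct.generated_of_elementary_nilpotent Fact.out hY.1 (fun y => Subtype.ext (hY.2 y y.2)) hYR
      hcop h
  -- the pattern of a line
  have pat : ∀ k ∈ Y, k ≠ 1 → ∀ c ∈ fixIn R k, ∀ z₀ ∈ Y, z₀ * c ≠ c * z₀ →
      ((∀ z ∈ Y, z ∉ Subgroup.zpowers k → Fixes P z) ∧ Fixes Q k) ∨
      ((∀ z ∈ Y, z ∉ Subgroup.zpowers k → Fixes Q z) ∧ Fixes P k) := by
    intro k hk hk1 c hc z₀ hz₀ hne
    have hko := hY.orderOf_eq hk hk1
    have hone : ∀ {M M' : Subgroup G} {p' : ℕ} [Fact p'.Prime], p' ≠ s → IsPGroup p' M' → M' ≠ ⊥ →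
        L ≤ Subgroup.normalizer (M' : Set G) → (∀ z ∈ Y, z ≠ 1 → Fixes M z → ¬ Fixes M' z) →
        (∀ z ∈ Y, z ∉ Subgroup.zpowers k → Fixes M z) → Fixes M' k := by
      intro M M' p' _ hp's hM' hM'ne hLM' hnb hM
      obtain ⟨y, hy, hy1, hyf⟩ := hY.exists_fixes hp's (hYL.trans hLM') hM' hM'ne
      by_cases hyk : y ∈ Subgroup.zpowers k
      · exact fixes_zpowers (zpowers_eq_of_mem (hY.orderOf_eq hy hy1) hko hyk) hyf
      · exact absurd hyf (hnb y hy hy1 (hM y hy hyk))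
    have hnb : ∀ z ∈ Y, z ≠ 1 → Fixes P z → ¬ Fixes Q z := fun z hz hz1 h1 h2 =>
      not_both hT hpq hP hQ hcomm hsp hsq (hY.orderOf_eq hz hz1) h1 h2
    set C := fixIn R k with hC
    have hCk : ∀ u ∈ C, k * u = u * k := fun u hu => (mem_fixIn.1 hu).2
    have hzC : ∀ z ∈ Y, z ∈ Subgroup.normalizer (C : Set G) := fun z hz =>
      normalizes_fixIn (hYR hz) (hY.comm z hz k hk)
    -- the commutator with the whole plane
    have hD : ∀ z ∈ Y, z ∉ Subgroup.zpowers k → ⁅C, Y⁆ ≤ ⁅C, Subgroup.zpowers z⁆ := by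
      intro z hz hzk
      have hzo := hY.orderOf_eq hz (fun h => hzk (h ▸ one_mem _))
      have heq : Subgroup.zpowers k ⊔ Subgroup.zpowers z = Y := Subgroup.eq_of_le_of_card_ge
        (sup_le (Subgroup.zpowers_le.2 hk) (Subgroup.zpowers_le.2 hz))
        (by rw [(plane_of_pair hko hzo (hY.comm k hk z hz) hzk).1, hY.1])
      rw [Subgroup.commutator_le]
      intro u hu y hy
      rw [← heq, SolvBasic.mem_sup_iff_of_le_normalizer] at hy
      swap
      · refine Subgroup.zpowers_le.2 (Subgroup.centralizer_le_normalizer _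
          (Subgroup.mem_centralizer_iff.2 fun w hw => ?_))
        exact (comm_of_zpowers (hY.comm z hz k hk) hw).symm
      obtain ⟨_, ⟨i, rfl⟩, v, hv, rfl⟩ := hy
      have h1 : Commute u (k ^ i) := (show Commute u k from (hCk u hu).symm).zpow_right i
      have hvY : v ∈ Y := Subgroup.zpowers_le.2 hz hv
      have hd : u * v * u⁻¹ * v⁻¹ ∈ C := by
        have h := conj_mem (hzC v hvY) (inv_mem hu)
        rw [show u * v * u⁻¹ * v⁻¹ = u * (v * u⁻¹ * v⁻¹) by group]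
        exact mul_mem hu h
      have h2 : Commute (k ^ i) (u * v * u⁻¹ * v⁻¹) :=
        (show Commute k _ from hCk _ hd).zpow_left i
      have h3 : ⁅u, k ^ i * v⁆ = u * v * u⁻¹ * v⁻¹ := by
        rw [commutatorElement_def, mul_inv_rev, show u * (k ^ i * v) * u⁻¹ * (v⁻¹ * (k ^ i)⁻¹) =
          u * k ^ i * (v * u⁻¹ * v⁻¹) * (k ^ i)⁻¹ by group, h1.eq,
          show k ^ i * u * (v * u⁻¹ * v⁻¹) * (k ^ i)⁻¹ = k ^ i * (u * v * u⁻¹ * v⁻¹) * (k ^ i)⁻¹ by group,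
          h2.eq, mul_inv_cancel_right]
      rw [h3, ← commutatorElement_def]
      exact Subgroup.commutator_mem_commutator hu hv
    have hodd : ∀ {p' : ℕ} [Fact p'.Prime] {M : Subgroup G}, p' ≠ r → p' ≠ s → IsPGroup p' M →
        L ≤ Subgroup.normalizer (M : Set G) → ∀ z ∈ Y, z ∉ Subgroup.zpowers k → ¬ Fixes M z →
        ⁅C, Y⁆ ≤ Subgroup.centralizer (M : Set G) := by
      intro p' _ M hp'r hp's hM hLM z hz hzk hf
      exact (hD z hz hzk).trans (odd_centralizes Fact.out Fact.out hp'r hp's hrs hr2 C M z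
        (hY.orderOf_eq hz (fun h => hzk (h ▸ one_mem _))) ((core_isPGroup r L).to_le (fixIn_le R k))
        (hzC z hz) (hLM (hYL hz)) ((fixIn_le R k).trans (hRL.trans hLM)) hM hf)
    by_cases hA : ∀ z ∈ Y, z ∉ Subgroup.zpowers k → Fixes P z
    · exact Or.inl ⟨hA, hone hsq.symm hQ hQne hLQ hnb hA⟩
    by_cases hB : ∀ z ∈ Y, z ∉ Subgroup.zpowers k → Fixes Q z
    · exact Or.inr ⟨hB, hone hsp.symm hP hPne hLP (fun z hz hz1 h1 h2 => hnb z hz hz1 h2 h1) hB⟩
    exfalso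
    push Not at hA hB
    obtain ⟨z₁, hz₁, hzk₁, hf₁⟩ := hA
    obtain ⟨z₂, hz₂, hzk₂, hf₂⟩ := hB
    have hmem : c * z₀ * c⁻¹ * z₀⁻¹ ∈ ⁅C, Y⁆ := Subgroup.commutator_mem_commutator hc hz₀
    exact hne (commute_of_comm_mem hfaith (hRL (fixIn_le R k hc)) (hYL hz₀)
      (hodd hrp.symm hsp.symm hP hLP z₁ hz₁ hzk₁ hf₁ hmem)
      (hodd hrq.symm hsq.symm hQ hLQ z₂ hz₂ hzk₂ hf₂ hmem)).symm
  -- some line does not centralise its fixed points
  obtain ⟨k, hk, hk1, c, hc, z₀, hz₀, hne⟩ : ∃ k ∈ Y, k ≠ 1 ∧ ∃ c ∈ fixIn R k, ∃ z₀ ∈ Y,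
      z₀ * c ≠ c * z₀ := by
    by_contra h
    push Not at h
    have hle := hgen (R ⊓ Subgroup.centralizer (Y : Set G)) fun y hy hy1 m hm =>
      ⟨fixIn_le R y hm, Subgroup.mem_centralizer_iff.2 fun w hw => h y hy hy1 m hm w hw⟩
    exact hall fun y hy m hm => Subgroup.mem_centralizer_iff.1 (hle hm).2 y hy
  have hko := hY.orderOf_eq hk hk1
  have hpat := pat k hk hk1 c hc z₀ hz₀ hne
  refine ⟨k, hk, hko, ?_, hpat.elim (fun h => Or.inr h.2) (fun h => Or.inl h.2)⟩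
  by_contra hnc
  push Not at hnc
  obtain ⟨k₂, hk₂, hk₂1, c₂, hc₂, hne₂⟩ : ∃ k₂ ∈ Y, k₂ ≠ 1 ∧ ∃ c₂ ∈ fixIn R k₂, k * c₂ ≠ c₂ * k := by
    by_contra h
    push Not at h
    obtain ⟨m, hm, hnm⟩ := hnc
    exact hnm (mem_fixIn.1 (hgen (fixIn R k)
      (fun y hy hy1 m hm => mem_fixIn.2 ⟨fixIn_le R y hm, h y hy hy1 m hm⟩) hm)).2
  have hkk₂ : k ∉ Subgroup.zpowers k₂ := fun h => hne₂ (comm_of_zpowers
    (mem_fixIn.1 hc₂).2.symm h).symm
  have hk₂k : k₂ ∉ Subgroup.zpowers k := fun h =>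
    hkk₂ (zpowers_eq_of_mem (hY.orderOf_eq hk₂ hk₂1) hko h)
  set z := k * k₂ with hz
  have hzY : z ∈ Y := mul_mem hk hk₂
  have hzk : z ∉ Subgroup.zpowers k := fun h => hk₂k (by
    have := mul_mem (inv_mem (Subgroup.mem_zpowers k)) h
    rwa [hz, inv_mul_cancel_left] at this)
  have hzk₂ : z ∉ Subgroup.zpowers k₂ := fun h => hkk₂ (by
    have := mul_mem h (inv_mem (Subgroup.mem_zpowers k₂))
    rwa [hz, mul_inv_cancel_right] at this)
  have hz1 : z ≠ 1 := fun h => hzk (h ▸ one_mem _)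
  have nb := fun {x : G} (hx : x ∈ Y) (hx1 : x ≠ 1) (h1 : Fixes P x) (h2 : Fixes Q x) =>
    not_both hT hpq hP hQ hcomm hsp hsq (hY.orderOf_eq hx hx1) h1 h2
  rcases hpat with ⟨hA, hkf⟩ | ⟨hA, hkf⟩ <;> rcases pat k₂ hk₂ hk₂1 c₂ hc₂ k hk hne₂ with ⟨hB, -⟩ | ⟨hB, -⟩
  · exact nb hk hk1 (hB k hk hkk₂) hkf
  · exact nb hzY hz1 (hA z hzY hzk) (hB z hzY hzk₂)
  · exact nb hzY hz1 (hB z hzY hzk₂) (hA z hzY hzk)
  · exact nb hk hk1 hkf (hB k hk hkk₂)

/-- The odd primes. -/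
theorem odd_false {r s : ℕ} [Fact r.Prime] [Fact s.Prime] (hrs : r ≠ s) (hrp : r ≠ p) (hrq : r ≠ q)
    (hsp : s ≠ p) (hsq : s ≠ q) (hr2 : r ≠ 2) (hs2 : s ≠ 2) [Group.IsSolvable L] (hS : PrimesIn {r, s} L)
    {X Y : Subgroup G} (hXL : X ≤ L) (hX : Plane r X) (hYL : Y ≤ L) (hY : Plane s Y) : False := by
  -- the `r`-core is nontrivial and cyclic
  have aux : ∀ {r s : ℕ} [Fact r.Prime] [Fact s.Prime], r ≠ s → r ≠ p → r ≠ q → s ≠ p → s ≠ q → r ≠ 2 →
      PrimesIn {r, s} L → ∀ {Y : Subgroup G}, Y ≤ L → Plane s Y →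
      core s L ≠ ⊥ ∧ IsCyclic (core r L) := by
    intro r s _ _ hrs hrp hrq hsp hsq hr2 hS Y hYL hY
    obtain ⟨k, hk, hko, hkc, hkf⟩ :=
      exists_line hT hpq hP hQ hPne hQne hLP hLQ hcomm hfaith hrs hrp hrq hsp hsq hr2 hYL hY
    refine ⟨fun hbot => ?_, ?_⟩
    · have := mem_core_of_central (hYL hk) hko (core_commute_all hS fun t ht _ m hm => by
        simp only [Finset.mem_insert, Finset.mem_singleton] at ht
        rcases ht with rfl | rfl
        · exact hkc m hm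
        · rw [hbot, Subgroup.mem_bot] at hm
          rw [hm, mul_one, one_mul])
      rw [hbot, Subgroup.mem_bot] at this
      rw [this, orderOf_one] at hko
      exact (Fact.out : s.Prime).ne_one hko.symm
    · by_contra hc
      obtain ⟨E, hEle, hE⟩ := exists_plane hr2 (core_isPGroup r L) hc
      have hEk : ∀ e ∈ E, e * k = k * e := fun e he => (hkc e (hEle he)).symm
      have hEL : E ≤ L := hEle.trans (core_le r L)
      have fin : ∀ {p : ℕ} [Fact p.Prime] {M : Subgroup G}, p ≠ r → p ≠ s → IsPGroup p M →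
          L ≤ Subgroup.normalizer (M : Set G) → Fixes M k → False := by
        intro p _ M hpr hps hM hLM hf
        obtain ⟨e, he, he1, hef⟩ := hE.exists_fixes hpr
          (fun e he => normalizes_fixIn (hLM (hEL he)) (hEk e he)) (hM.to_le (fixIn_le M k))
          (fixIn_ne_bot hf)
        exact no_common hT Fact.out Fact.out hps hpr hrs.symm hM hko (hE.orderOf_eq he he1)
          (hEk e he).symm hef
      rcases hkf with h | h
      · exact fin hrp.symm hsp.symm hP hLP h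
      · exact fin hrq.symm hsq.symm hQ hLQ h
  exact cyclic_cores_false hrs hS (aux hrs hrp hrq hsp hsq hr2 hS hYL hY).2
    (aux hrs.symm hsp hsq hrp hrq hs2 (Finset.pair_comm r s ▸ hS) hXL hX).2 hXL hX hYL hY

end Cfsg.Agent.SpecTri
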