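import Cfsg.Agent.Lib.Solvable.CoprimeFreeGroup
import Cfsg.Agent.Lib.Solvable.Coprime
import Cfsg.Agent.Lib.OddOrder.ComplAction
import Cfsg.Agent.Lib.FGStruct.MaximalCount

/-!
Coprime fixed point free operators on `p`-groups (Frobenius kernels act trivially, and odd
`r`-groups are centralised), stated for arbitrary `p`-groups.
-/

set_option autoImplicit false

namespace Cfsg.Agent.SpecTri

universe u

/-- A Frobenius group `Q⟨x⟩` (any order of `x`) without fixed vectors: `Q` acts trivially. -/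
theorem frobenius_linear {K : Type*} [Field K] {V : Type*} [AddCommGroup V] [Module K V]
    {Q : Type*} [Group Q] [Finite Q] {n : ℕ} (hn : 0 < n)
    (hQK : (Nat.card Q : K) ≠ 0) (τ : Q →* Module.End K V) (X : Module.End K V)
    (θ : MulAut Q) (hsum : ∑ i ∈ Finset.range n, X ^ i = 0)
    (hconj : ∀ t, X * τ t = τ (θ t) * X)
    (hfix : ∀ i, 0 < i → i < n → ∀ t, (θ ^ i) t = t → t = 1) : ∀ t, τ t = 1 := by
  classical
  have := Fintype.ofFinite Q
  have hconjk : ∀ (i : ℕ) t, X ^ i * τ t = τ ((θ ^ i) t) * X ^ i := by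
    intro i
    induction i with
    | zero => simp
    | succ i ih =>
      intro t
      rw [pow_succ', mul_assoc, ih, ← mul_assoc, hconj, mul_assoc, ← MulAut.mul_apply, ← pow_succ']
  set e := ∑ t : Q, τ t with he
  have hi : ∀ i ∈ Finset.range n, ∑ t : Q, τ t * X ^ i * τ t⁻¹ =
      e * X ^ i + if i = 0 then (Nat.card Q : K) • (1 : Module.End K V) - e else 0 := by
    intro i hi
    split_ifs with h0
    · subst h0
      simp only [pow_zero, mul_one, ← map_mul, mul_inv_cancel, map_one, Finset.sum_const,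
        Finset.card_univ, Nat.card_eq_fintype_card, add_sub_cancel, ← Nat.cast_smul_eq_nsmul K]
    · rw [add_zero, he, Finset.sum_mul]
      have hbij : Function.Bijective fun t : Q => t * (θ ^ i) t⁻¹ := by
        refine (Finite.injective_iff_bijective).1 fun s t hst => ?_
        simp only [map_inv] at hst
        have h : (θ ^ i) (t⁻¹ * s) = t⁻¹ * s := by
          rw [map_mul, map_inv]
          calc ((θ ^ i) t)⁻¹ * (θ ^ i) s = t⁻¹ * (t * ((θ ^ i) t)⁻¹ * (θ ^ i) s) := by group
            _ = t⁻¹ * s := by rw [← hst, inv_mul_cancel_right]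
        exact (inv_mul_eq_one.1 (hfix i (Nat.pos_of_ne_zero h0) (Finset.mem_range.1 hi) _ h)).symm
      refine Fintype.sum_bijective _ hbij _ _ fun t => ?_
      rw [mul_assoc, hconjk, ← mul_assoc, ← map_mul]
  have h0 : ∑ t : Q, τ t * (∑ i ∈ Finset.range n, X ^ i) * τ t⁻¹ = 0 := by simp [hsum]
  simp_rw [Finset.mul_sum, Finset.sum_mul] at h0
  rw [Finset.sum_comm, Finset.sum_congr rfl hi, Finset.sum_add_distrib, ← Finset.mul_sum, hsum,
    mul_zero, zero_add, Finset.sum_ite_eq' (Finset.range n) 0,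
    if_pos (Finset.mem_range.2 hn), sub_eq_zero] at h0
  intro s
  have h : τ s * e = e := by
    rw [he, Finset.mul_sum]
    simp_rw [← map_mul]
    exact Equiv.sum_comp (Equiv.mulLeft s) fun t => τ t
  rw [← h0, mul_smul_comm, mul_one] at h
  exact smul_right_injective _ hQK h

variable {G : Type u} [Group G]

/-- `x` fixes a nontrivial element of `M`. -/
def Fixes (M : Subgroup G) (x : G) : Prop := ∃ m ∈ M, m ≠ 1 ∧ x * m = m * x

theorem eq_one_of_not_fixes {M : Subgroup G} {x m : G} (h : ¬ Fixes M x) (hm : m ∈ M)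
    (hc : x * m = m * x) : m = 1 :=
  by_contra fun h1 => h ⟨m, hm, h1, hc⟩

theorem inf_centralizer_zpowers {M : Subgroup G} {x : G} (h : ¬ Fixes M x) :
    M ⊓ Subgroup.centralizer (Subgroup.zpowers x : Set G) = ⊥ :=
  (Subgroup.eq_bot_iff_forall _).2 fun _ hm => eq_one_of_not_fixes h hm.1
    (Subgroup.mem_centralizer_iff.1 hm.2 x (Subgroup.mem_zpowers x))

theorem conj_mem {M : Subgroup G} {g m : G} (hg : g ∈ Subgroup.normalizer (M : Set G)) (hm : m ∈ M) :
    g * m * g⁻¹ ∈ M := (Subgroup.mem_normalizer_iff.1 hg m).1 hm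

theorem conj_comm_mem {A : Subgroup G} {g a : G} (hg : g ∈ Subgroup.normalizer (A : Set G))
    (ha : a ∈ A) : g * a * g⁻¹ * a⁻¹ ∈ A := mul_mem (conj_mem hg ha) (inv_mem ha)

/-- The elementary abelian case. -/
theorem frob_elementary [Finite G] {p : ℕ} [Fact p.Prime] (A V : Subgroup G) (x : G)
    (hxA : x ∈ Subgroup.normalizer (A : Set G)) (hxV : x ∈ Subgroup.normalizer (V : Set G))
    (hAV : A ≤ Subgroup.normalizer (V : Set G)) (hV : Cfsg.IsElementaryAbelian p V)
    (hpA : (Nat.card A).Coprime p)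
    (hA : ∀ i, 0 < i → i < orderOf x → ∀ a ∈ A, x ^ i * a = a * x ^ i → a = 1)
    (hVx : ¬ Fixes V x) : A ≤ Subgroup.centralizer (V : Set G) := by
  let θ : MulAut A := A.normalizerMonoidHom ⟨x, hxA⟩
  let α : MulAut V := V.normalizerMonoidHom ⟨x, hxV⟩
  let β : A →* MulAut V := V.normalizerMonoidHom.comp (Subgroup.inclusion hAV)
  have hα : α ^ orderOf x = 1 := by
    rw [← map_pow, show (⟨x, hxV⟩ : Subgroup.normalizer (V : Set G)) ^ orderOf x = 1 from
      Subtype.ext (pow_orderOf_eq_one x), map_one]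
  have hfix : ∀ w, α w = w → w = 1 := fun w hw => Subtype.ext (eq_one_of_not_fixes hVx w.2
    (mul_inv_eq_iff_eq_mul.1 (show x * (w : G) * x⁻¹ = w from congrArg Subtype.val hw)))
  have hconj : ∀ t, α * β t = β (θ t) * α := fun t => by
    change V.normalizerMonoidHom _ * V.normalizerMonoidHom _ =
      V.normalizerMonoidHom _ * V.normalizerMonoidHom _
    rw [← map_mul, ← map_mul]
    refine congrArg _ (Subtype.ext ?_)
    change x * (t : G) = x * (t : G) * x⁻¹ * x
    rw [inv_mul_cancel_right]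
  have := hV.1
  letI instC : CommGroup V :=
    { (inferInstance : Group V) with mul_comm := fun a b => mul_comm' a b }
  letI instM : Module (ZMod p) (Additive V) := AddCommGroup.zmodModule fun v => by
    change Additive.ofMul ((Additive.toMul v) ^ p) = 0
    rw [show (Additive.toMul v) ^ p = 1 from Subtype.ext (hV.2 _ (Additive.toMul v).2)]
    rfl
  obtain ⟨K, i1, i2, i3, U, i4, i5, i6, τ, T, hτ, -, hsum, hc⟩ :=
    CoprimeFree.linearise (p := p) V α β θ hα hfix hconj
  have hQK : (Nat.card A : K) ≠ 0 := by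
    rw [Ne, CharP.cast_eq_zero_iff K p]
    exact fun h => (Fact.out : p.Prime).not_dvd_one (hpA ▸ Nat.dvd_gcd h dvd_rfl)
  have htriv := frobenius_linear (orderOf_pos x) hQK τ T θ hsum hc fun i hi hin t ht => by
    refine Subtype.ext (hA i hi hin t t.2 ?_)
    have h : θ ^ i = A.normalizerMonoidHom (⟨x, hxA⟩ ^ i) := (map_pow _ _ _).symm
    rw [h] at ht
    exact mul_inv_eq_iff_eq_mul.1 (show x ^ i * (t : G) * (x ^ i)⁻¹ = t from congrArg Subtype.val ht)
  intro a ha
  have h : β ⟨a, ha⟩ = β 1 := hτ _ _ (by rw [htriv, map_one])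
  rw [map_one] at h
  refine Subgroup.mem_centralizer_iff.2 fun v hv => ?_
  have h' : a * v * a⁻¹ = v := congrArg (fun F : MulAut V => ((F ⟨v, hv⟩ : V) : G)) h
  exact (mul_inv_eq_iff_eq_mul.1 h').symm

section Descend

variable [Finite G] (M : Subgroup G)

/-- The Frattini subgroup of `M` inside its normalizer. -/
def phi : Subgroup (Subgroup.normalizer (M : Set G)) :=
  (frattini M).map (Subgroup.inclusion Subgroup.le_normalizer)

instance phi_normal : (phi M).Normal := by
  refine ⟨fun f hf g => ?_⟩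
  obtain ⟨m, hm, rfl⟩ := hf
  exact ⟨M.normalizerMonoidHom g m,
    Subgroup.characteristic_iff_map_le.1 inferInstance _ ⟨m, hm, rfl⟩, rfl⟩

/-- The Frattini quotient of `M` inside the normalizer. -/
def vbar : Subgroup (Subgroup.normalizer (M : Set G) ⧸ phi M) :=
  (M.subgroupOf (Subgroup.normalizer (M : Set G))).map (QuotientGroup.mk' (phi M))

theorem vbar_normal : (vbar M).Normal := by
  have : (M.subgroupOf (Subgroup.normalizer (M : Set G))).Normal :=
    Subgroup.normal_subgroupOf_of_le_normalizer le_rfl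
  exact this.map _ (QuotientGroup.mk'_surjective _)

theorem vbar_elementary {p : ℕ} [Fact p.Prime] (hM : IsPGroup p M) :
    Cfsg.IsElementaryAbelian p (vbar M) := by
  refine ⟨.of_setLike_mul_comm ?_, ?_⟩
  · rintro _ ⟨a, ha, rfl⟩ _ ⟨b, hb, rfl⟩
    rw [← commutatorElement_eq_one_iff_mul_comm, ← map_commutatorElement]
    exact (QuotientGroup.eq_one_iff _).2
      ⟨_, MaximalCount.comm_mem_frattini hM ⟨a, ha⟩ ⟨b, hb⟩, rfl⟩
  · rintro _ ⟨a, ha, rfl⟩
    rw [← map_pow]
    exact (QuotientGroup.eq_one_iff _).2 ⟨_, MaximalCount.mem_frattini_pow hM ⟨a, ha⟩, rfl⟩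

variable {M}

theorem phi_mem {h : Subgroup.normalizer (M : Set G)} (hh : QuotientGroup.mk' (phi M) h = 1) :
    (h : G) ∈ M := by
  obtain ⟨m, -, rfl⟩ := (QuotientGroup.eq_one_iff _).1 hh
  exact m.2

theorem not_fixes_vbar {p : ℕ} [Fact p.Prime] (hM : IsPGroup p M) {x : G}
    (hxM : x ∈ Subgroup.normalizer (M : Set G)) (hpx : (orderOf x).Coprime p) (hMx : ¬ Fixes M x) :
    ¬ Fixes (vbar M) (QuotientGroup.mk' (phi M) ⟨x, hxM⟩) := by
  rintro ⟨v, hv, hv1, hc⟩
  set N := Subgroup.normalizer (M : Set G) with hN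
  set M' := M.subgroupOf N with hM'
  set C := Subgroup.zpowers (⟨x, hxM⟩ : N) with hC
  have hnorm : C ≤ Subgroup.normalizer (M' : Set N) := by
    rw [Subgroup.normalizer_eq_top_iff.2 (Subgroup.normal_subgroupOf_of_le_normalizer le_rfl)]
    exact le_top
  obtain ⟨e, he⟩ := hM.exists_card_eq
  have hcop : (Nat.card C).Coprime (Nat.card M') := by
    rw [Nat.card_zpowers, Nat.card_congr (Subgroup.subgroupOfEquivOfLe Subgroup.le_normalizer).toEquiv,
      he, Subgroup.orderOf_mk]
    exact hpx.pow_right e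
  have h := CoprimeAct.map_inf_centralizer (QuotientGroup.mk' (phi M)) hnorm hcop
    (Or.inl (Group.isSolvable_of_comm fun a b => mul_comm' a b))
  have hvC : v ∈ M'.map (QuotientGroup.mk' (phi M)) ⊓
      Subgroup.centralizer ((C.map (QuotientGroup.mk' (phi M)) : Subgroup _) : Set _) := by
    refine ⟨hv, Subgroup.mem_centralizer_iff.2 ?_⟩
    rw [hC, MonoidHom.map_zpowers]
    rintro _ ⟨i, rfl⟩
    exact (show Commute _ v from hc).zpow_left i
  rw [← h] at hvC
  obtain ⟨m, ⟨hm, hmc⟩, rfl⟩ := hvC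
  have h1 : (m : G) = 1 := eq_one_of_not_fixes hMx hm
    (congrArg Subtype.val (Subgroup.mem_centralizer_iff.1 hmc _ (Subgroup.mem_zpowers _)))
  exact hv1 (by rw [show m = 1 from Subtype.ext h1, map_one])

/-- Triviality on the Frattini quotient gives triviality. -/
theorem descend {p : ℕ} [Fact p.Prime] (hM : IsPGroup p M) {B : Subgroup G}
    (hBM : B ≤ Subgroup.normalizer (M : Set G)) (hpB : (Nat.card B).Coprime p)
    (h : (B.subgroupOf (Subgroup.normalizer (M : Set G))).map (QuotientGroup.mk' (phi M)) ≤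
      Subgroup.centralizer (vbar M : Set (Subgroup.normalizer (M : Set G) ⧸ phi M))) :
    B ≤ Subgroup.centralizer (M : Set G) := by
  obtain ⟨e, he⟩ := (hM.to_subgroup (frattini M)).exists_card_eq
  refine CoprimeAct.le_centralizer_of_frattini hBM (he ▸ hpB.pow_right e) fun b hb m hm => ?_
  have hc := Subgroup.mem_centralizer_iff.1
    (h (Subgroup.mem_map_of_mem _ (show (⟨b, hBM hb⟩ : Subgroup.normalizer (M : Set G)) ∈
      B.subgroupOf (Subgroup.normalizer (M : Set G)) from hb)))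
    _ (Subgroup.mem_map_of_mem (K := M.subgroupOf (Subgroup.normalizer (M : Set G))) _
      (x := ⟨m, Subgroup.le_normalizer hm⟩) hm)
  rw [eq_comm, ← commutatorElement_eq_one_iff_mul_comm, ← map_commutatorElement] at hc
  obtain ⟨f, hf, hfe⟩ := (QuotientGroup.eq_one_iff _).1 hc
  exact ⟨f, hf, congrArg Subtype.val hfe⟩

end Descend

variable [Finite G]

/-- Frobenius groups of operators without fixed points act with trivial kernel. -/
theorem frob {p : ℕ} [Fact p.Prime] (A M : Subgroup G) (x : G)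
    (hxA : x ∈ Subgroup.normalizer (A : Set G)) (hxM : x ∈ Subgroup.normalizer (M : Set G))
    (hAM : A ≤ Subgroup.normalizer (M : Set G)) (hM : IsPGroup p M)
    (hpA : (Nat.card A).Coprime p) (hpx : (orderOf x).Coprime p)
    (hA : ∀ i, 0 < i → i < orderOf x → ∀ a ∈ A, x ^ i * a = a * x ^ i → a = 1)
    (hMx : ¬ Fixes M x) : A ≤ Subgroup.centralizer (M : Set G) := by
  refine descend hM hAM hpA ?_
  set N := Subgroup.normalizer (M : Set G) with hN
  set π := QuotientGroup.mk' (phi M) with hπ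
  have hnorm : ∀ K : Subgroup (N ⧸ phi M), K ≤ Subgroup.normalizer (vbar M : Set (N ⧸ phi M)) :=
    fun K => by rw [Subgroup.normalizer_eq_top_iff.2 (vbar_normal M)]; exact le_top
  refine frob_elementary (p := p) _ (vbar M) (π ⟨x, hxM⟩) ?_ ?_ (hnorm _) (vbar_elementary M hM) ?_ ?_
    (not_fixes_vbar hM hxM hpx hMx)
  · have hx' : (⟨x, hxM⟩ : N) ∈ Subgroup.normalizer (A.subgroupOf N : Set N) :=
      Subgroup.mem_normalizer_iff.2 fun a => Subgroup.mem_normalizer_iff.1 hxA a
    exact Subgroup.le_normalizer_map π ⟨_, hx', rfl⟩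
  · exact hnorm ⊤ (Subgroup.mem_top _)
  · exact (hpA.coprime_dvd_left (Nat.card_congr (Subgroup.subgroupOfEquivOfLe hAM).toEquiv ▸ dvd_rfl)
      ).coprime_dvd_left (Subgroup.card_map_dvd _ _)
  · rintro i hi hin _ ⟨a, ha, rfl⟩ hc
    have hord : orderOf (π ⟨x, hxM⟩) ∣ orderOf x :=
      (orderOf_map_dvd π _).trans (by rw [Subgroup.orderOf_mk])
    have hin' : i < orderOf x := hin.trans_le (Nat.le_of_dvd (orderOf_pos x) hord)
    rw [← map_pow, ← commutatorElement_eq_one_iff_mul_comm, ← map_commutatorElement] at hc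
    have hmM : x ^ i * (a : G) * (x ^ i)⁻¹ * (a : G)⁻¹ ∈ M := phi_mem hc
    have hmA : x ^ i * (a : G) * (x ^ i)⁻¹ * (a : G)⁻¹ ∈ A :=
      conj_comm_mem (pow_mem hxA i) ha
    obtain ⟨e, he⟩ := hM.exists_card_eq
    have hbot : A ⊓ M = ⊥ := SchurZ.inf_eq_bot (he ▸ (hpA.pow_right e).symm)
    have h1 : x ^ i * (a : G) * (x ^ i)⁻¹ * (a : G)⁻¹ = 1 :=
      Subgroup.mem_bot.1 (hbot ▸ Subgroup.mem_inf.2 ⟨hmA, hmM⟩)
    rw [show a = 1 from Subtype.ext (hA i hi hin' a ha
      (commutatorElement_eq_one_iff_mul_comm.1 h1)), map_one]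

/-- Frobenius groups with complement of prime order. -/
theorem frob_prime {p s : ℕ} [Fact p.Prime] (hs : s.Prime) (hsp : s ≠ p) (A M : Subgroup G) (x : G)
    (hx : orderOf x = s) (hxA : x ∈ Subgroup.normalizer (A : Set G))
    (hxM : x ∈ Subgroup.normalizer (M : Set G)) (hAM : A ≤ Subgroup.normalizer (M : Set G))
    (hM : IsPGroup p M) (hpA : (Nat.card A).Coprime p) (hAx : ¬ Fixes A x) (hMx : ¬ Fixes M x) :
    A ≤ Subgroup.centralizer (M : Set G) := by
  refine frob A M x hxA hxM hAM hM hpA (hx ▸ (Nat.coprime_primes hs Fact.out).2 hsp) ?_ hMx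
  intro i hi hin a ha hc
  obtain ⟨k, hk⟩ := exists_pow_eq_self_of_coprime (x := x) (n := i)
    (by rw [hx]; exact (hs.coprime_iff_not_dvd.2 fun h => absurd (Nat.le_of_dvd hi h)
      (not_le.2 (hx ▸ hin))).symm)
  refine eq_one_of_not_fixes hAx ha ?_
  rw [← hk]
  exact (show Commute (x ^ i) a from hc).pow_left k

/-- A fixed point free operator of prime order centralises an odd `r`-group modulo the kernel. -/
theorem odd_centralizes {p r s : ℕ} [hp : Fact p.Prime] (hr : r.Prime) (hs : s.Prime) (hpr : p ≠ r)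
    (hps : p ≠ s) (hrs : r ≠ s) (hr2 : r ≠ 2) (A M : Subgroup G) (x : G) (hx : orderOf x = s)
    (hA : IsPGroup r A) (hxA : x ∈ Subgroup.normalizer (A : Set G))
    (hxM : x ∈ Subgroup.normalizer (M : Set G)) (hAM : A ≤ Subgroup.normalizer (M : Set G))
    (hM : IsPGroup p M) (hMx : ¬ Fixes M x) :
    ⁅A, Subgroup.zpowers x⁆ ≤ Subgroup.centralizer (M : Set G) := by
  have := Fact.mk hr
  have := Fact.mk hs
  have hBA : ⁅A, Subgroup.zpowers x⁆ ≤ A :=
    CoprimeAct.commutator_le_left (Subgroup.zpowers_le.2 hxA)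
  obtain ⟨e, he⟩ := hA.exists_card_eq
  have hpA : (Nat.card A).Coprime p :=
    he ▸ ((Nat.coprime_primes hr hp.out).2 hpr.symm).pow_left e
  refine descend hM (hBA.trans hAM) (hpA.coprime_dvd_left (Subgroup.card_dvd_of_le hBA)) ?_
  set N := Subgroup.normalizer (M : Set G) with hN
  set π := QuotientGroup.mk' (phi M) with hπ
  have hnorm : ∀ K : Subgroup (N ⧸ phi M), K ≤ Subgroup.normalizer (vbar M : Set (N ⧸ phi M)) :=
    fun K => by rw [Subgroup.normalizer_eq_top_iff.2 (vbar_normal M)]; exact le_top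
  have hx1 : π ⟨x, hxM⟩ ≠ 1 := by
    intro h
    have hxm : x ∈ M := phi_mem h
    exact hMx ⟨x, hxm, fun h1 => hs.ne_one (by rw [← hx, h1, orderOf_one]), rfl⟩
  have hR : Nat.card (Subgroup.zpowers (π ⟨x, hxM⟩)) = s := by
    rw [Nat.card_zpowers]
    exact orderOf_eq_prime (by rw [← map_pow, show (⟨x, hxM⟩ : N) ^ s = 1 from
      Subtype.ext (hx ▸ pow_orderOf_eq_one x), map_one]) hx1
  have hxA' : (⟨x, hxM⟩ : N) ∈ Subgroup.normalizer (A.subgroupOf N : Set N) :=
    Subgroup.mem_normalizer_iff.2 fun a => Subgroup.mem_normalizer_iff.1 hxA a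
  have h := OddOrder.ComplAction.commutator_le_centralizer_of_fixed hp.out hr hs hpr hps hrs hr2
    (Subgroup.zpowers (π ⟨x, hxM⟩)) ((A.subgroupOf N).map π) (vbar M) hR
    ((hA.of_equiv (Subgroup.subgroupOfEquivOfLe hAM).symm).map π) (vbar_elementary M hM)
    (Subgroup.zpowers_le.2 (Subgroup.le_normalizer_map π ⟨_, hxA', rfl⟩)) (hnorm _) (hnorm _)
    (inf_centralizer_zpowers (not_fixes_vbar hM hxM (hx ▸ (Nat.coprime_primes hs hp.out).2 hps.symm) hMx))
  refine le_trans ?_ h
  rw [← MonoidHom.map_zpowers, ← Subgroup.map_commutator]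
  refine Subgroup.map_mono fun b hb => ?_
  have hb' : (b : G) ∈ (⁅A.subgroupOf N, Subgroup.zpowers (⟨x, hxM⟩ : N)⁆).map N.subtype := by
    rw [Subgroup.map_commutator, Subgroup.map_subgroupOf_eq_of_le hAM, MonoidHom.map_zpowers]
    exact hb
  obtain ⟨c, hc, hcb⟩ := hb'
  rwa [← Subtype.ext hcb]

end Cfsg.Agent.SpecTri
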