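import Cfsg.Agent.Lib.SpecTri.Frob
import Cfsg.Agent.Lib.Solvable.Hall
import Cfsg.Agent.Lib.Solvable.Fitting
import Cfsg.Agent.Lib.FGBasics.FittingCriterion
import Cfsg.Agent.Lib.FiniteGroup.FittingPow
import Cfsg.Agent.Lib.FiniteGroup.CyclicPGroup

/-!
Elementary facts for the triangle criterion: planes of order `t^2`, cores of subgroups,
operators on cyclic cores, Hall subgroups for a set of primes.
-/

set_option autoImplicit false

namespace Cfsg.Agent.SpecTri

universe u

variable {G : Type u} [Group G]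

/-- `Y` is elementary abelian of order `s^2`. -/
def Plane (s : ℕ) (Y : Subgroup G) : Prop := Nat.card Y = s ^ 2 ∧ ∀ y ∈ Y, y ^ s = 1

/-- All primes dividing the order of `K` are in `S`. -/
def PrimesIn (S : Finset ℕ) (K : Subgroup G) : Prop := ∀ t : ℕ, t.Prime → t ∣ Nat.card K → t ∈ S

theorem comm_of_zpowers {a b c : G} (h : a * b = b * a) (hc : c ∈ Subgroup.zpowers b) : a * c = c * a := by
  obtain ⟨i, rfl⟩ := hc
  exact (show Commute a b from h).zpow_right i

variable [Finite G]

theorem Plane.comm {s : ℕ} [Fact s.Prime] {Y : Subgroup G} (hY : Plane s Y) :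
    ∀ a ∈ Y, ∀ b ∈ Y, a * b = b * a := fun a ha b hb =>
  congrArg Subtype.val ((IsPGroup.isMulCommutative_of_card_eq_prime_sq hY.1).is_comm.comm ⟨a, ha⟩ ⟨b, hb⟩)

theorem Plane.orderOf_eq {s : ℕ} [Fact s.Prime] {Y : Subgroup G} (hY : Plane s Y) {y : G} (hy : y ∈ Y)
    (h1 : y ≠ 1) : orderOf y = s := orderOf_eq_prime (hY.2 y hy) h1

theorem exists_prime_elt {p : ℕ} [Fact p.Prime] {M : Subgroup G} (hM : IsPGroup p M) (hne : M ≠ ⊥) :
    ∃ m ∈ M, orderOf m = p := by
  have h : p ∣ Nat.card M := hM.card_eq_or_dvd.resolve_left fun h => hne (Subgroup.card_eq_one.1 h)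
  obtain ⟨m, hm⟩ := exists_prime_orderOf_dvd_card' (G := M) p h
  exact ⟨m, m.2, by rw [Subgroup.orderOf_coe, hm]⟩

theorem fixes_order {p : ℕ} [Fact p.Prime] {M : Subgroup G} (hM : IsPGroup p M) {x : G}
    (h : Fixes M x) : ∃ m ∈ M, orderOf m = p ∧ x * m = m * x := by
  obtain ⟨m, hm, hm1, hc⟩ := h
  obtain ⟨n, hn, hno⟩ := exists_prime_elt (M := M ⊓ Subgroup.centralizer {x})
    (hM.to_le inf_le_left) (fun h => hm1 ((Subgroup.eq_bot_iff_forall _).1 h m
      ⟨hm, Subgroup.mem_centralizer_singleton_iff.2 hc.symm⟩))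
  exact ⟨n, hn.1, hno, (Subgroup.mem_centralizer_singleton_iff.1 hn.2).symm⟩

/-- Some element of a plane fixes a point of a nontrivial `p`-group. -/
theorem Plane.exists_fixes {p s : ℕ} [Fact p.Prime] [Fact s.Prime] (hps : p ≠ s) {Y M : Subgroup G}
    (hY : Plane s Y) (hYM : Y ≤ Subgroup.normalizer (M : Set G)) (hM : IsPGroup p M) (hne : M ≠ ⊥) :
    ∃ y ∈ Y, y ≠ 1 ∧ Fixes M y := by
  by_contra h
  push Not at h
  have := hM.isNilpotent
  obtain ⟨e, he⟩ := hM.exists_card_eq
  refine hne (le_bot_iff.1 (CoprimeAct.generated_of_elementary_nilpotent (X := ⊥) Fact.out hY.1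
    (fun y => Subtype.ext (hY.2 y y.2)) hYM
    (he ▸ ((Nat.coprime_primes Fact.out Fact.out).2 hps.symm).pow_right e) fun y hy hy1 m hm => ?_))
  exact Subgroup.mem_bot.2 (eq_one_of_not_fixes (h y hy hy1) hm.1
    (Subgroup.mem_centralizer_singleton_iff.1 hm.2).symm)

/-- Two independent commuting elements of order `s` give a plane. -/
theorem plane_of_pair {s : ℕ} [hs : Fact s.Prime] {a b : G} (ha : orderOf a = s) (hb : orderOf b = s)
    (hab : a * b = b * a) (hne : b ∉ Subgroup.zpowers a) :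
    Plane s (Subgroup.zpowers a ⊔ Subgroup.zpowers b) := by
  have hnorm : Subgroup.zpowers b ≤ Subgroup.normalizer (Subgroup.zpowers a : Set G) := by
    refine (Subgroup.zpowers_le.2 ?_)
    refine Subgroup.centralizer_le_normalizer _ (Subgroup.mem_centralizer_iff.2 fun c hc => ?_)
    exact (comm_of_zpowers hab.symm hc).symm
  have hinf : Subgroup.zpowers a ⊓ Subgroup.zpowers b = ⊥ := by
    have : Fact (Nat.card (Subgroup.zpowers b)).Prime := ⟨by rw [Nat.card_zpowers, hb]; exact hs.out⟩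
    rcases ((Subgroup.zpowers a).subgroupOf (Subgroup.zpowers b)).eq_bot_or_eq_top_of_prime_card with h | h
    · exact disjoint_iff.1 (Subgroup.subgroupOf_eq_bot.1 h)
    · exact absurd (Subgroup.subgroupOf_eq_top.1 h (Subgroup.mem_zpowers b)) hne
  have hcard := SolvBasic.card_sup_mul_card_inf hnorm
  rw [hinf, Subgroup.card_bot, mul_one, Nat.card_zpowers, Nat.card_zpowers, ha, hb] at hcard
  refine ⟨by rw [hcard, sq], fun y hy => ?_⟩
  obtain ⟨u, hu, v, hv, rfl⟩ := (SolvBasic.mem_sup_iff_of_le_normalizer hnorm).1 hy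
  obtain ⟨i, rfl⟩ := hu
  obtain ⟨j, rfl⟩ := hv
  have hpow : ∀ (c : G) (m : ℤ), orderOf c = s → (c ^ m) ^ s = 1 := fun c m hc => by
    rw [← zpow_natCast, ← zpow_mul, mul_comm, zpow_mul, zpow_natCast, ← hc, pow_orderOf_eq_one,
      one_zpow]
  rw [((show Commute a b from hab).zpow_zpow i j).mul_pow, hpow a i ha, hpow b j hb, one_mul]

/-- A noncyclic group of odd prime power order contains a plane. -/
theorem exists_plane {r : ℕ} [hr : Fact r.Prime] (hr2 : r ≠ 2) {R : Subgroup G} (hR : IsPGroup r R)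
    (hc : ¬ IsCyclic R) : ∃ E : Subgroup G, E ≤ R ∧ Plane r E := by
  obtain ⟨A, hA, hAn⟩ := CyclicPGroup.exists_noncyclic_abelian hr2 R hR hc
  obtain ⟨t, E, ht, hE, hexp⟩ := CoprimeAct.exists_elementary_of_not_isCyclic hAn
  have htr : t = r := by
    obtain ⟨k, hk⟩ := ((hR.to_subgroup A).to_subgroup E).exists_card_eq
    have h : t ∣ r ^ k := hk ▸ hE ▸ dvd_pow_self t two_ne_zero
    exact (Nat.prime_dvd_prime_iff_eq ht hr.out).1 (ht.dvd_of_dvd_pow h)
  subst htr
  refine ⟨(E.map A.subtype).map R.subtype, Subgroup.map_subtype_le _, ?_, ?_⟩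
  · rw [Subgroup.card_map_of_injective R.subtype_injective,
      Subgroup.card_map_of_injective A.subtype_injective, hE]
  · rintro _ ⟨_, ⟨e, he, rfl⟩, rfl⟩
    rw [← map_pow, ← map_pow, show e ^ t = 1 from congrArg Subtype.val (hexp ⟨e, he⟩), map_one,
      map_one]

/-- An operator of prime order on a cyclic group that does not centralise it. -/
theorem dvd_totient {S : Subgroup G} (hS : IsCyclic S) {r : ℕ} [hr : Fact r.Prime] {x : G}
    (hx : orderOf x = r) (hxS : x ∈ Subgroup.normalizer (S : Set G))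
    (hne : ∃ m ∈ S, x * m ≠ m * x) : r ∣ Nat.totient (Nat.card S) := by
  let α : MulAut S := S.normalizerMonoidHom ⟨x, hxS⟩
  have hα : orderOf α = r := by
    refine orderOf_eq_prime ?_ ?_
    · rw [← map_pow, show (⟨x, hxS⟩ : Subgroup.normalizer (S : Set G)) ^ r = 1 from
        Subtype.ext (hx ▸ pow_orderOf_eq_one x), map_one]
    · intro h
      obtain ⟨m, hm, hne⟩ := hne
      exact hne (mul_inv_eq_iff_eq_mul.1
        (congrArg (fun F : MulAut S => ((F ⟨m, hm⟩ : S) : G)) h))
  have hcard : Nat.card (MulAut S) = Nat.totient (Nat.card S) := IsCyclic.card_mulAut S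
  exact hα ▸ hcard ▸ orderOf_dvd_natCard α

theorem lt_of_not_commute {S : Subgroup G} (hS : IsCyclic S) {r s : ℕ} [hr : Fact r.Prime]
    [hs : Fact s.Prime] (hrs : r ≠ s) (hSp : IsPGroup s S) {x : G} (hx : orderOf x = r)
    (hxS : x ∈ Subgroup.normalizer (S : Set G)) (hne : ∃ m ∈ S, x * m ≠ m * x) : r < s := by
  have h := dvd_totient hS hx hxS hne
  obtain ⟨k, hk⟩ := hSp.exists_card_eq
  rcases Nat.eq_zero_or_pos k with rfl | hk0
  · rw [hk, pow_zero, Nat.totient_one] at h
    exact absurd h hr.out.not_dvd_one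
  rw [hk, Nat.totient_prime_pow hs.out hk0] at h
  rcases hr.out.dvd_mul.1 h with h | h
  · exact absurd ((Nat.prime_dvd_prime_iff_eq hr.out hs.out).1 (hr.out.dvd_of_dvd_pow h)) hrs
  · have := Nat.le_of_dvd (by have := hs.out.two_le; omega) h
    omega

theorem zpowers_eq_of_cyclic {S : Subgroup G} (hS : IsCyclic S) {r : ℕ} [Fact r.Prime] {a b : G}
    (ha : a ∈ S) (hb : b ∈ S) (hao : orderOf a = r) (hbo : orderOf b = r) :
    b ∈ Subgroup.zpowers a := by
  classical
  have := Fintype.ofFinite S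
  set F : Finset S := Finset.univ.filter (· ∈ Subgroup.zpowers (⟨a, ha⟩ : S)) with hF
  have hFc : F.card = r := by
    rw [hF, ← Fintype.card_subtype, ← Nat.card_eq_fintype_card]
    exact (Nat.card_zpowers _).trans ((Subgroup.orderOf_mk _ _).trans hao)
  have hsub : F ⊆ Finset.univ.filter (fun c : S => c ^ r = 1) := fun c hc => by
    obtain ⟨i, rfl⟩ := (Finset.mem_filter.1 hc).2
    refine Finset.mem_filter.2 ⟨Finset.mem_univ _, Subtype.ext ?_⟩
    change (a ^ i) ^ r = 1
    rw [← zpow_natCast, ← zpow_mul, mul_comm, zpow_mul, zpow_natCast, ← hao, pow_orderOf_eq_one, one_zpow]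
  have heq := Finset.eq_of_subset_of_card_le hsub
    ((IsCyclic.card_pow_eq_one_le (Fact.out : r.Prime).pos).trans hFc.ge)
  have h : (⟨b, hb⟩ : S) ∈ F := heq ▸ Finset.mem_filter.2
    ⟨Finset.mem_univ _, Subtype.ext (hbo ▸ pow_orderOf_eq_one b)⟩
  obtain ⟨i, hi⟩ := (Finset.mem_filter.1 h).2
  exact ⟨i, congrArg Subtype.val hi⟩

/-- An element of order `r` commutes with elements of a group of order `r` it normalises. -/
theorem commute_of_normalizes_prime {r : ℕ} [hr : Fact r.Prime] {x w : G} (hx : orderOf x = r)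
    (hw : orderOf w = r) (hxw : x ∈ Subgroup.normalizer (Subgroup.zpowers w : Set G)) :
    x * w = w * x := by
  by_contra hne
  have hc : Nat.card (Subgroup.zpowers w) = r := by rw [Nat.card_zpowers, hw]
  have h := dvd_totient (S := Subgroup.zpowers w) inferInstance hx hxw ⟨w, Subgroup.mem_zpowers w, hne⟩
  rw [hc, Nat.totient_prime hr.out] at h
  have h2 := hr.out.two_le
  have := Nat.le_of_dvd (by omega) h
  omega

/-- A coprime operator on a cyclic group of prime power order with a fixed point is trivial. -/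
theorem commute_cyclic {r s : ℕ} [Fact r.Prime] [hs : Fact s.Prime] (hrs : r ≠ s) {R : Subgroup G}
    (hR : IsCyclic R) (hRp : IsPGroup r R) {x : G} (hx : orderOf x = s)
    (hxR : x ∈ Subgroup.normalizer (R : Set G)) (hfix : Fixes R x) : ∀ m ∈ R, x * m = m * x := by
  have : IsMulCommutative R := IsCyclic.isMulCommutative
  have hA : Subgroup.zpowers x ≤ Subgroup.normalizer (R : Set G) := Subgroup.zpowers_le.2 hxR
  obtain ⟨e, he⟩ := hRp.exists_card_eq
  have hcop : (Nat.card (Subgroup.zpowers x)).Coprime (Nat.card R) := by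
    rw [Nat.card_zpowers, hx, he]
    exact ((Nat.coprime_primes hs.out Fact.out).2 hrs.symm).pow_right e
  have hinf := CoprimeAct.centralizer_inf_commutator_eq_bot hA hcop
  have hsup := CoprimeAct.centralizer_sup_commutator hA hcop
  rcases eq_or_ne ⁅R, Subgroup.zpowers x⁆ ⊥ with h | h
  · intro m hm
    exact Subgroup.mem_centralizer_iff.1
      (Subgroup.commutator_eq_bot_iff_le_centralizer.1 h hm) x (Subgroup.mem_zpowers x)
  · exfalso
    obtain ⟨a, ha, hao, hac⟩ := fixes_order hRp hfix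
    obtain ⟨b, hb, hbo⟩ := exists_prime_elt (hRp.to_le (CoprimeAct.commutator_le_left hA)) h
    have hbR := CoprimeAct.commutator_le_left hA hb
    have hab : a ∈ ⁅R, Subgroup.zpowers x⁆ :=
      Subgroup.zpowers_le.2 hb (zpowers_eq_of_cyclic hR hbR ha hbo hao)
    have ha' : a ∈ R ⊓ Subgroup.centralizer (Subgroup.zpowers x : Set G) :=
      ⟨ha, Subgroup.mem_centralizer_iff.2 fun c hc => (comm_of_zpowers hac.symm hc).symm⟩
    have h1 : a = 1 := Subgroup.mem_bot.1 (hinf ▸ Subgroup.mem_inf.2 ⟨ha', hab⟩)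
    rw [h1, orderOf_one] at hao
    exact (Fact.out : r.Prime).ne_one hao.symm

/-- The `t`-core of `L` inside the ambient group. -/
def core (t : ℕ) (L : Subgroup G) : Subgroup G := (Cfsg.pCore t L).map L.subtype

theorem core_le (t : ℕ) (L : Subgroup G) : core t L ≤ L := Subgroup.map_subtype_le _

theorem core_isPGroup (t : ℕ) (L : Subgroup G) : IsPGroup t (core t L) :=
  (FittingCores.pCore_isPGroup t).map _

theorem le_normalizer_core (t : ℕ) (L : Subgroup G) :
    L ≤ Subgroup.normalizer (core t L : Set G) := by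
  have h := Subgroup.le_normalizer_map (H := Cfsg.pCore t L) L.subtype
  rwa [Subgroup.normalizer_eq_top_iff.2 (FittingCores.pCore_normal t), ← MonoidHom.range_eq_map,
    Subgroup.range_subtype] at h

theorem core_commute {t t' : ℕ} (ht : t.Prime) (ht' : t'.Prime) (hne : t ≠ t') {L : Subgroup G}
    {a b : G} (ha : a ∈ core t L) (hb : b ∈ core t' L) : a * b = b * a := by
  obtain ⟨a, ha, rfl⟩ := ha
  obtain ⟨b, hb, rfl⟩ := hb
  exact congrArg Subtype.val (FiniteGroup.commute_pCores ht ht' hne ha hb).eq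

theorem core_eq_bot_of_not_dvd {t : ℕ} (ht : t.Prime) {L : Subgroup G} (h : ¬ t ∣ Nat.card L) :
    core t L = ⊥ := by
  have := Fact.mk ht
  refine Subgroup.card_eq_one.1 ((core_isPGroup t L).card_eq_or_dvd.resolve_right fun hd => h ?_)
  exact hd.trans (Subgroup.card_dvd_of_le (core_le t L))

theorem core_commute_all {L : Subgroup G} {S : Finset ℕ} (hS : PrimesIn S L) {x : G}
    (h : ∀ t ∈ S, t.Prime → ∀ m ∈ core t L, x * m = m * x) :
    ∀ t : ℕ, t.Prime → ∀ m ∈ core t L, x * m = m * x := by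
  intro t ht m hm
  by_cases hd : t ∣ Nat.card L
  · exact h t (hS t ht hd) ht m hm
  · rw [core_eq_bot_of_not_dvd ht hd, Subgroup.mem_bot] at hm
    rw [hm, mul_one, one_mul]

theorem mem_core_of_mem_fitting {L : Subgroup G} [Group.IsSolvable L] {t : ℕ} [Fact t.Prime] {x : G}
    (hxL : x ∈ L) (hx : orderOf x = t) (hF : (⟨x, hxL⟩ : L) ∈ Cfsg.fittingSubgroup L) :
    x ∈ core t L := by
  have : (Cfsg.fittingSubgroup L).Normal := FittingCores.fitting_normal
  have := FittingCores.fitting_nilpotent (G := L)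
  exact ⟨_, FiniteGroup.mem_pCore_of_mem_normal_nilpotent _ hF ⟨1, by rw [Subgroup.orderOf_mk, hx, pow_one]⟩, rfl⟩

/-- In a solvable group an element of order `t` centralising all cores lies in the `t`-core. -/
theorem mem_core_of_central {L : Subgroup G} [Group.IsSolvable L] {t : ℕ} [Fact t.Prime] {x : G}
    (hxL : x ∈ L) (hx : orderOf x = t) (h : ∀ t' : ℕ, t'.Prime → ∀ m ∈ core t' L, x * m = m * x) :
    x ∈ core t L := by
  refine mem_core_of_mem_fitting hxL hx (FittingCores.centralizer_fitting_le ?_)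
  have hle : Cfsg.fittingSubgroup L ≤ Subgroup.centralizer {(⟨x, hxL⟩ : L)} := by
    rw [FittingCores.fitting_eq_iSup_pCore]
    exact iSup_le fun p m hm => Subgroup.mem_centralizer_singleton_iff.2
      (Subtype.ext (h p p.2 m ⟨m, hm, rfl⟩).symm)
  exact Subgroup.mem_centralizer_iff.2 fun m hm => Subgroup.mem_centralizer_singleton_iff.1 (hle hm)

/-- If the `r`-core is cyclic, an element of order `r` centralising the other cores lies in it. -/
theorem mem_core_of_cyclic {L : Subgroup G} [Group.IsSolvable L] {r : ℕ} [hr : Fact r.Prime]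
    (hc : IsCyclic (core r L)) {x : G} (hxL : x ∈ L) (hx : orderOf x = r)
    (h : ∀ t : ℕ, t.Prime → t ≠ r → ∀ m ∈ core t L, x * m = m * x) : x ∈ core r L := by
  classical
  set O := Cfsg.pCore r L with hO
  have : O.Normal := FittingCores.pCore_normal r
  have : IsCyclic (O.map L.subtype : Subgroup G) := hc
  have hOc : IsCyclic O := isCyclic_of_injective
    ((Subgroup.equivMapOfInjective O L.subtype L.subtype_injective).toMonoidHom)
    (MulEquiv.injective _)
  let e := IsCyclic.mulAutMulEquiv O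
  have hab : ∀ α β : MulAut O, α * β = β * α := fun α β => e.injective (by
    rw [map_mul, map_mul, mul_comm])
  let T : Subgroup (MulAut O) :=
    { carrier := {α | ∃ k : ℕ, α ^ r ^ k = 1}
      one_mem' := ⟨0, one_pow _⟩
      mul_mem' := fun {a b} ⟨i, hi⟩ ⟨j, hj⟩ => ⟨i + j, by
        rw [(show Commute a b from hab a b).mul_pow, pow_add, pow_mul, hi, one_pow, mul_comm,
          pow_mul, hj, one_pow, one_mul]⟩
      inv_mem' := fun {a} ⟨i, hi⟩ => ⟨i, by rw [inv_pow, hi, inv_one]⟩ }
  have hT : T.Normal := ⟨fun a ha g => by rwa [hab g a, mul_inv_cancel_right]⟩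
  let φ : L →* MulAut O := MulAut.conjNormal
  set C : Subgroup L := T.comap φ ⊓ ⨅ t : {t : ℕ // t.Prime ∧ t ≠ r},
    Subgroup.centralizer ((Cfsg.pCore t L : Subgroup L) : Set L) with hC
  have hCn : C.Normal := by
    have h1 : (T.comap φ).Normal := hT.comap φ
    have h2 : (⨅ t : {t : ℕ // t.Prime ∧ t ≠ r},
        Subgroup.centralizer ((Cfsg.pCore t L : Subgroup L) : Set L)).Normal :=
      Subgroup.normal_iInf_normal fun t => by
        have := FittingCores.pCore_normal (G := L) (t : ℕ)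
        infer_instance
    exact inferInstanceAs (T.comap φ ⊓ _).Normal
  have hle : C ≤ Cfsg.fittingSubgroup L := by
    refine FGBasics.le_fitting_of_coprime_centralize hCn fun t ht c hc hcop => ?_
    rcases eq_or_ne t r with rfl | htr
    · obtain ⟨k, hk⟩ := hc.1
      have h1 : φ c = 1 := orderOf_eq_one_iff.1 (Nat.Coprime.eq_one_of_dvd
        ((hcop.pow_right k).coprime_dvd_left (orderOf_map_dvd φ c)) (orderOf_dvd_of_pow_eq_one hk))
      refine Subgroup.mem_centralizer_iff.2 fun m hm => ?_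
      have h2 : c * m * c⁻¹ = m := congrArg (fun F : MulAut O => ((F ⟨m, hm⟩ : O) : L)) h1
      exact (mul_inv_eq_iff_eq_mul.1 h2).symm
    · exact Subgroup.mem_iInf.1 hc.2 ⟨t, ht, htr⟩
  refine mem_core_of_mem_fitting hxL hx (hle ⟨⟨1, ?_⟩, ?_⟩)
  · rw [pow_one, ← map_pow, show (⟨x, hxL⟩ : L) ^ r = 1 from Subtype.ext (hx ▸ pow_orderOf_eq_one x),
      map_one]
  · exact Subgroup.mem_iInf.2 fun t => Subgroup.mem_centralizer_iff.2 fun m hm =>
      Subtype.ext (h t t.2.1 t.2.2 m ⟨m, hm, rfl⟩).symm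

/-- Hall subgroups for a set of primes. -/
theorem exists_hall_primes (K : Subgroup G) [Group.IsSolvable K] (S : Finset ℕ) :
    ∃ L : Subgroup G, L ≤ K ∧ PrimesIn S L ∧ ∀ U : Subgroup G, U ≤ K → PrimesIn S U →
      ∃ k ∈ K, ∀ u ∈ U, k * u * k⁻¹ ∈ L := by
  classical
  set N := Nat.card K with hN
  set m := ∏ t ∈ N.primeFactors.filter (· ∈ S), t ^ N.factorization t with hm
  set n := ∏ t ∈ N.primeFactors.filter (· ∉ S), t ^ N.factorization t with hn
  have hmn : N = m * n := by
    rw [hm, hn, Finset.prod_filter_mul_prod_filter_not]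
    exact Nat.prod_primeFactors_pow_factorization (Nat.card_pos (α := K)).ne'
  have hprime : ∀ (T : Finset ℕ) (t : ℕ), T ⊆ N.primeFactors → t.Prime →
      t ∣ ∏ u ∈ T, u ^ N.factorization u → t ∈ T := by
    intro T t hT ht hd
    obtain ⟨u, hu, hdu⟩ := (Prime.dvd_finsetProd_iff ht.prime _).1 hd
    rwa [(Nat.prime_dvd_prime_iff_eq ht (Nat.prime_of_mem_primeFactors (hT hu))).1
      (ht.dvd_of_dvd_pow hdu)]
  have hcop : m.Coprime n := Nat.coprime_of_dvd fun t ht h1 h2 => by
    have h1' := hprime _ t (Finset.filter_subset _ _) ht h1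
    have h2' := hprime _ t (Finset.filter_subset _ _) ht h2
    exact (Finset.mem_filter.1 h2').2 (Finset.mem_filter.1 h1').2
  obtain ⟨⟨H, hH⟩, hconj⟩ := HallSolv.hall (G := K) hmn hcop
  refine ⟨H.map K.subtype, Subgroup.map_subtype_le _, fun t ht hd => ?_, fun U hU hUS => ?_⟩
  · rw [Subgroup.card_map_of_injective K.subtype_injective, hH] at hd
    exact (Finset.mem_filter.1 (hprime _ t (Finset.filter_subset _ _) ht hd)).2
  · obtain ⟨g, hg⟩ := hconj H (U.subgroupOf K) hH (Nat.coprime_of_dvd fun t ht h1 h2 => by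
      rw [Nat.card_congr (Subgroup.subgroupOfEquivOfLe hU).toEquiv] at h1
      exact (Finset.mem_filter.1 (hprime _ t (Finset.filter_subset _ _) ht h2)).2 (hUS t ht h1))
    refine ⟨g, g.2, fun u hu => ?_⟩
    exact ⟨_, hg (Subgroup.smul_mem_pointwise_smul (⟨u, hU hu⟩ : K) (MulAut.conj g) _ hu), rfl⟩

end Cfsg.Agent.SpecTri
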