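import Cfsg.Agent.Lib.SpecTri.CaseOne

/-!
A solvable group has no four primes which are pairwise joined, triangle-free, in its spectrum.
-/

set_option autoImplicit false

namespace Cfsg.Agent.SpecTri

universe u

variable {G : Type u} [Group G] [Finite G] [Group.IsSolvable G]

/-- The situation with exactly four primes. -/
structure Four (G : Type u) [Group G] (S : Finset ℕ) : Prop where
  card : S.card = 4
  prime : ∀ t ∈ S, t.Prime
  primes : PrimesIn S (⊤ : Subgroup G)
  triple : NoTriple G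
  pair : ∀ t ∈ S, ∀ t' ∈ S, t ≠ t' → ∃ x y : G, orderOf x = t ∧ orderOf y = t' ∧ x * y = y * x

omit [Group.IsSolvable G] in
theorem three_cores_false (hT : NoTriple G) {L : Subgroup G} {a b c : ℕ} (ha : a.Prime)
    (hb : b.Prime) (hc : c.Prime) (hab : a ≠ b) (hbc : b ≠ c) (hac : a ≠ c) (h1 : core a L ≠ ⊥)
    (h2 : core b L ≠ ⊥) (h3 : core c L ≠ ⊥) : False := by
  have := Fact.mk ha
  have := Fact.mk hb
  have := Fact.mk hc
  obtain ⟨x, hx, hxo⟩ := exists_prime_elt (core_isPGroup a L) h1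
  obtain ⟨y, hy, hyo⟩ := exists_prime_elt (core_isPGroup b L) h2
  obtain ⟨z, hz, hzo⟩ := exists_prime_elt (core_isPGroup c L) h3
  exact hT a b c ha hb hc hab hbc hac x y z hxo hyo hzo (core_commute ha hb hab hx hy)
    (core_commute hb hc hbc hy hz) (core_commute ha hc hac hx hz)

omit [Group.IsSolvable G] in
theorem exists_core {S : Finset ℕ} {L : Subgroup G} [Group.IsSolvable L] (hS : PrimesIn S L) {t : ℕ}
    (ht : t.Prime) {x : G} (hx : x ∈ L) (hxo : orderOf x = t) : ∃ u ∈ S, core u L ≠ ⊥ := by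
  by_contra h
  push Not at h
  have := Fact.mk ht
  have h1 := mem_core_of_central hx hxo (core_commute_all hS fun u hu _ m hm => by
    rw [h u hu, Subgroup.mem_bot] at hm
    rw [hm, mul_one, one_mul])
  rw [h t (hS t ht (prime_dvd_card_of_mem hx hxo)), Subgroup.mem_bot] at h1
  rw [h1, orderOf_one] at hxo
  exact ht.ne_one hxo.symm

theorem Four.plane {S : Finset ℕ} (h : Four G S) {t : ℕ} (ht : t ∈ S) : ∃ Y : Subgroup G, Plane t Y := by
  classical
  have h3 : (S.erase t).card = 3 := by rw [Finset.card_erase_of_mem ht, h.card]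
  obtain ⟨a, b, c, hab, hac, hbc, he⟩ := Finset.card_eq_three.1 h3
  have hm : ∀ u ∈ ({a, b, c} : Finset ℕ), u ∈ S ∧ t ≠ u := fun u hu => by
    rw [← he, Finset.mem_erase] at hu
    exact ⟨hu.2, hu.1.symm⟩
  obtain ⟨ha, hta⟩ := hm a (by simp)
  obtain ⟨hb, htb⟩ := hm b (by simp)
  obtain ⟨hc, htc⟩ := hm c (by simp)
  exact exists_plane_prime h.triple (h.prime t ht) (h.prime a ha) (h.prime b hb) (h.prime c hc) hta htb
    htc hab hac hbc fun u hu => h.pair t ht u (hm u hu).1 (hm u hu).2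

theorem Four.two_false {S : Finset ℕ} (h : Four G S) {p q r s : ℕ} [Fact p.Prime] [Fact q.Prime]
    [Fact r.Prime] [Fact s.Prime] (hS : S = {p, q, r, s}) (hpq : p ≠ q) (hpr : p ≠ r) (hps : p ≠ s)
    (hqr : q ≠ r) (hqs : q ≠ s) (hrs : r ≠ s) (hP : core p (⊤ : Subgroup G) ≠ ⊥)
    (hQ : core q (⊤ : Subgroup G) ≠ ⊥) (hR : core r (⊤ : Subgroup G) = ⊥)
    (hS' : core s (⊤ : Subgroup G) = ⊥) : False := by
  obtain ⟨X, hX⟩ := h.plane (t := r) (by simp [hS])
  obtain ⟨Y, hY⟩ := h.plane (t := s) (by simp [hS])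
  obtain ⟨L, -, hLS, hLH⟩ := exists_hall_primes (⊤ : Subgroup G) ({r, s} : Finset ℕ)
  obtain ⟨X', hX'L, hX'⟩ := plane_in hLH (Fact.out : r.Prime) (by simp) le_top hX
  obtain ⟨Y', hY'L, hY'⟩ := plane_in hLH (Fact.out : s.Prime) (by simp) le_top hY
  have hn : ∀ t : ℕ, L ≤ Subgroup.normalizer (core t (⊤ : Subgroup G) : Set G) := fun t =>
    le_top.trans (le_normalizer_core t ⊤)
  have hcomm : ∀ a ∈ core p (⊤ : Subgroup G), ∀ b ∈ core q (⊤ : Subgroup G), a * b = b * a :=
    fun a ha b hb => core_commute Fact.out Fact.out hpq ha hb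
  have hfaith : ∀ c ∈ L, c ∈ Subgroup.centralizer (core p (⊤ : Subgroup G) : Set G) →
      c ∈ Subgroup.centralizer (core q (⊤ : Subgroup G) : Set G) → c = 1 := by
    intro c hcL hcP hcQ
    have hbot : L ⊓ (Subgroup.centralizer (core p (⊤ : Subgroup G) : Set G) ⊓
        Subgroup.centralizer (core q (⊤ : Subgroup G) : Set G)) = ⊥ := eq_bot_of_no_prime fun t ht x hx hxo => by
      have := Fact.mk ht
      have htS := hLS t ht (prime_dvd_card_of_mem hx.1 hxo)
      simp only [Finset.mem_insert, Finset.mem_singleton] at htS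
      have hb : core t (⊤ : Subgroup G) = ⊥ := by rcases htS with rfl | rfl <;> assumption
      have h1 := mem_core_of_central (L := (⊤ : Subgroup G)) (Subgroup.mem_top x) hxo
        (core_commute_all h.primes fun u hu _ m hm => by
          simp only [hS, Finset.mem_insert, Finset.mem_singleton] at hu
          rcases hu with rfl | rfl | rfl | rfl
          · exact (Subgroup.mem_centralizer_iff.1 hx.2.1 m hm).symm
          · exact (Subgroup.mem_centralizer_iff.1 hx.2.2 m hm).symm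
          · rw [hR, Subgroup.mem_bot] at hm; rw [hm, mul_one, one_mul]
          · rw [hS', Subgroup.mem_bot] at hm; rw [hm, mul_one, one_mul])
      rw [hb, Subgroup.mem_bot] at h1
      rw [h1, orderOf_one] at hxo
      exact ht.ne_one hxo.symm
    exact Subgroup.mem_bot.1 (hbot ▸ Subgroup.mem_inf.2 ⟨hcL, hcP, hcQ⟩)
  have hT := h.triple
  have hPp := core_isPGroup p (⊤ : Subgroup G)
  have hQp := core_isPGroup q (⊤ : Subgroup G)
  by_cases hr2 : r = 2
  · subst hr2
    exact even_false hT hpq hPp hQp hP hQ (hn p) (hn q) hcomm hfaith hps.symm hqs.symm hpr.symm hqr.symm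
      hrs hX'L hX' hY'L hY'
  by_cases hs2 : s = 2
  · subst hs2
    exact even_false hT hpq hPp hQp hP hQ (hn p) (hn q) hcomm hfaith hpr.symm hqr.symm hps.symm hqs.symm
      hrs.symm hY'L hY' hX'L hX'
  exact odd_false hT hpq hPp hQp hP hQ (hn p) (hn q) hcomm hfaith hrs hpr.symm hqr.symm hps.symm hqs.symm
    hr2 hs2 hLS hX'L hX' hY'L hY'

theorem Four.one_false {S : Finset ℕ} (h : Four G S) {p : ℕ} [Fact p.Prime] (hp : p ∈ S)
    (hothers : ∀ t ∈ S, t ≠ p → core t (⊤ : Subgroup G) = ⊥) : False := by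
  classical
  have hT := h.triple
  set P := core p (⊤ : Subgroup G) with hPd
  have hPp : IsPGroup p P := core_isPGroup p _
  obtain ⟨K, -, hKS, hKH⟩ := exists_hall_primes (⊤ : Subgroup G) (S.erase p)
  have hKP : K ≤ Subgroup.normalizer (P : Set G) := le_top.trans (le_normalizer_core p ⊤)
  have hfaith : ∀ c ∈ K, c ∈ Subgroup.centralizer (P : Set G) → c = 1 := by
    intro c hcK hcP
    have hbot : K ⊓ Subgroup.centralizer (P : Set G) = ⊥ := eq_bot_of_no_prime fun t ht x hx hxo => by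
      have := Fact.mk ht
      obtain ⟨htp, htS⟩ := Finset.mem_erase.1 (hKS t ht (prime_dvd_card_of_mem hx.1 hxo))
      have h1 := mem_core_of_central (L := (⊤ : Subgroup G)) (Subgroup.mem_top x) hxo
        (core_commute_all h.primes fun u hu _ m hm => by
          rcases eq_or_ne u p with rfl | hup
          · exact (Subgroup.mem_centralizer_iff.1 hx.2 m hm).symm
          · rw [hothers u hu hup, Subgroup.mem_bot] at hm; rw [hm, mul_one, one_mul])
      rw [hothers t htS htp, Subgroup.mem_bot] at h1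
      rw [h1, orderOf_one] at hxo
      exact ht.ne_one hxo.symm
    exact Subgroup.mem_bot.1 (hbot ▸ Subgroup.mem_inf.2 ⟨hcK, hcP⟩)
  have h3 : (S.erase p).card = 3 := by rw [Finset.card_erase_of_mem hp, h.card]
  have hpl : ∀ t ∈ S.erase p, ∃ Y : Subgroup G, Y ≤ K ∧ Plane t Y := fun t ht => by
    obtain ⟨Y, hY⟩ := h.plane (Finset.mem_of_mem_erase ht)
    exact plane_in hKH (h.prime t (Finset.mem_of_mem_erase ht)) ht le_top hY
  have hpairs : ∀ t ∈ S.erase p, ∀ t' ∈ S.erase p, t ≠ t' →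
      ∃ a ∈ K, ∃ b ∈ K, orderOf a = t ∧ orderOf b = t' ∧ a * b = b * a := fun t ht t' ht' hne => by
    obtain ⟨x, y, hx, hy, hxy⟩ := h.pair t (Finset.mem_of_mem_erase ht) t' (Finset.mem_of_mem_erase ht') hne
    obtain ⟨k, -, h1, h2, h3, h4, h5⟩ := pair_in hKH (Subgroup.mem_top x) (Subgroup.mem_top y)
      (h.prime t (Finset.mem_of_mem_erase ht)) (h.prime t' (Finset.mem_of_mem_erase ht')) hx hy ht ht' hxy
    exact ⟨_, h1, _, h2, h3, h4, h5⟩
  -- the two kinds of cores of `K`
  have main : ∀ {q r s : ℕ}, q ≠ r → q ≠ s → r ≠ s → S.erase p = {q, r, s} → core q K ≠ ⊥ →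
      core s K = ⊥ → False := by
    intro q r s hqr hqs hrs he hQ hS'
    have hq : q ∈ S.erase p := by simp [he]
    have hr : r ∈ S.erase p := by simp [he]
    have hs : s ∈ S.erase p := by simp [he]
    have := Fact.mk (h.prime q (Finset.mem_of_mem_erase hq))
    have := Fact.mk (h.prime r (Finset.mem_of_mem_erase hr))
    have := Fact.mk (h.prime s (Finset.mem_of_mem_erase hs))
    have hpq := (Finset.ne_of_mem_erase hq).symm
    have hpr := (Finset.ne_of_mem_erase hr).symm
    have hps := (Finset.ne_of_mem_erase hs).symm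
    obtain ⟨W, hWK, hW⟩ := hpl q hq
    obtain ⟨X, hXK, hX⟩ := hpl r hr
    obtain ⟨Y, hYK, hY⟩ := hpl s hs
    by_cases hR : core r K = ⊥
    · exact one_core_false hT hPp hKP hfaith hpq hpr hps hqr hqs hrs (he ▸ hKS) hR hS' hQ
        (hpairs r hr s hs hrs) hXK hX hYK hY
    · exact two_cores_false hT hPp hKP hfaith hpq hpr hps hqr hqs hrs (he ▸ hKS) hS' hQ hR
        (hpairs r hr s hs hrs) (hpairs q hq s hs hqs) hWK hW hXK hX hYK hY
  obtain ⟨a, b, c, hab, hac, hbc, he⟩ := Finset.card_eq_three.1 h3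
  obtain ⟨x, hx, -, -, hxo, -, -⟩ := hpairs a (by simp [he]) b (by simp [he]) hab
  obtain ⟨u, hu, hcu⟩ := exists_core hKS (h.prime a (Finset.mem_of_mem_erase (s := S) (a := p) (by simp [he]))) hx hxo
  obtain ⟨v, w, hvw, he'⟩ := Finset.card_eq_two.1
    (show ((S.erase p).erase u).card = 2 by rw [Finset.card_erase_of_mem hu, h3])
  have hv : v ∈ (S.erase p).erase u := by simp [he']
  have hw : w ∈ (S.erase p).erase u := by simp [he']
  have he2 : S.erase p = {u, v, w} := by rw [← Finset.insert_erase hu, he']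
  have huv := (Finset.ne_of_mem_erase hv).symm
  have huw := (Finset.ne_of_mem_erase hw).symm
  by_cases hcw : core w K = ⊥
  · exact main huv huw hvw he2 hcu hcw
  by_cases hcv : core v K = ⊥
  · exact main huw huv hvw.symm (by rw [he2, Finset.pair_comm v w]) hcu hcv
  exact three_cores_false hT (h.prime u (Finset.mem_of_mem_erase hu))
    (h.prime v (Finset.mem_of_mem_erase (Finset.mem_of_mem_erase hv)))
    (h.prime w (Finset.mem_of_mem_erase (Finset.mem_of_mem_erase hw))) huv hvw huw hcu hcv hcw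

theorem Four.false {S : Finset ℕ} (h : Four G S) : False := by
  classical
  obtain ⟨a, b, c, d, hab, hac, had, hbc, hbd, hcd, he⟩ := Finset.card_eq_four.1 h.card
  obtain ⟨x, y, hx, -, -⟩ := h.pair a (by simp [he]) b (by simp [he]) hab
  obtain ⟨p, hp, hcp⟩ := exists_core h.primes (h.prime a (by simp [he])) (Subgroup.mem_top x) hx
  have := Fact.mk (h.prime p hp)
  by_cases hall : ∀ t ∈ S, t ≠ p → core t (⊤ : Subgroup G) = ⊥
  · exact h.one_false hp hall
  push Not at hall
  obtain ⟨q, hq, hqp, hcq⟩ := hall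
  have := Fact.mk (h.prime q hq)
  have hq' : q ∈ S.erase p := Finset.mem_erase.2 ⟨hqp, hq⟩
  obtain ⟨r, s, hrs, he'⟩ := Finset.card_eq_two.1
    (show ((S.erase p).erase q).card = 2 by
      rw [Finset.card_erase_of_mem hq', Finset.card_erase_of_mem hp, h.card])
  have hS : S = {p, q, r, s} := by rw [← he', Finset.insert_erase hq', Finset.insert_erase hp]
  have hr : r ∈ (S.erase p).erase q := by simp [he']
  have hs : s ∈ (S.erase p).erase q := by simp [he']
  have hrS := Finset.mem_of_mem_erase (Finset.mem_of_mem_erase hr)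
  have hsS := Finset.mem_of_mem_erase (Finset.mem_of_mem_erase hs)
  have := Fact.mk (h.prime r hrS)
  have := Fact.mk (h.prime s hsS)
  have hqr := (Finset.ne_of_mem_erase hr).symm
  have hqs := (Finset.ne_of_mem_erase hs).symm
  have hpr := (Finset.ne_of_mem_erase (Finset.mem_of_mem_erase hr)).symm
  have hps := (Finset.ne_of_mem_erase (Finset.mem_of_mem_erase hs)).symm
  by_cases hcr : core r (⊤ : Subgroup G) = ⊥
  · by_cases hcs : core s (⊤ : Subgroup G) = ⊥
    · exact h.two_false hS hqp.symm hpr hps hqr hqs hrs hcp hcq hcr hcs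
    · exact three_cores_false h.triple (h.prime p hp) (h.prime q hq) (h.prime s hsS) hqp.symm hqs
        hps hcp hcq hcs
  · exact three_cores_false h.triple (h.prime p hp) (h.prime q hq) (h.prime r hrS) hqp.symm hqr
      hpr hcp hcq hcr

omit [Group.IsSolvable G] in
/-- Four primes pairwise joined without triangles exclude solvability. -/
theorem not_solvable (σ : Finset ℕ) (hσ : 4 ≤ σ.card) (hprime : ∀ p ∈ σ, p.Prime)
    (h2 : ∀ p ∈ σ, ∀ q ∈ σ, p ≠ q → ∃ g : G, orderOf g = p * q)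
    (h3 : ∀ p ∈ σ, ∀ q ∈ σ, ∀ r ∈ σ, p ≠ q → q ≠ r → p ≠ r → ∀ g : G, orderOf g ≠ p * q * r) :
    ¬ Group.IsSolvable G := by
  intro hsolv
  obtain ⟨S, hSσ, hS4⟩ := Finset.exists_subset_card_eq hσ
  obtain ⟨H, -, hHS, hHH⟩ := exists_hall_primes (⊤ : Subgroup G) S
  refine Four.false (G := H) (S := S) ⟨hS4, fun t ht => hprime t (hSσ ht), ?_, ?_, ?_⟩
  · intro t ht hd
    rw [Subgroup.card_top] at hd
    exact hHS t ht hd
  · intro t₁ t₂ t₃ ht₁ ht₂ ht₃ h12 h23 h13 x y z hx hy hz hxy hyz hxz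
    have hxo : orderOf (x : G) = t₁ := by rw [Subgroup.orderOf_coe, hx]
    have hyo : orderOf (y : G) = t₂ := by rw [Subgroup.orderOf_coe, hy]
    have hzo : orderOf (z : G) = t₃ := by rw [Subgroup.orderOf_coe, hz]
    have hmem : ∀ {w : G} {t : ℕ}, t.Prime → w ∈ H → orderOf w = t → t ∈ σ := fun {w t} ht hw hwo =>
      hSσ (hHS t ht (prime_dvd_card_of_mem hw hwo))
    have c12 : Commute x y := hxy
    have c3 : Commute (x * y) z := (show Commute x z from hxz).mul_left hyz
    have h12o : orderOf (x * y) = t₁ * t₂ := by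
      rw [c12.orderOf_mul_eq_mul_orderOf_of_coprime (by rw [hx, hy]; exact (Nat.coprime_primes ht₁ ht₂).2 h12),
        hx, hy]
    refine h3 t₁ (hmem ht₁ x.2 hxo) t₂ (hmem ht₂ y.2 hyo) t₃ (hmem ht₃ z.2 hzo) h12 h23 h13
      ((x * y * z : H) : G) ?_
    have h13' := (Nat.coprime_primes ht₁ ht₃).2 h13
    have h23' := (Nat.coprime_primes ht₂ ht₃).2 h23
    rw [Subgroup.orderOf_coe, c3.orderOf_mul_eq_mul_orderOf_of_coprime
      (by rw [h12o, hz]; exact Nat.Coprime.mul_left h13' h23'), h12o, hz]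
  · intro t ht t' ht' hne
    obtain ⟨g, hg⟩ := h2 t (hSσ ht) t' (hSσ ht') hne
    have htp := hprime t (hSσ ht)
    have htp' := hprime t' (hSσ ht')
    have h1 : orderOf (g ^ t') = t := by
      rw [orderOf_pow' _ htp'.ne_zero, hg, Nat.gcd_eq_right (dvd_mul_left t' t),
        Nat.mul_div_cancel _ htp'.pos]
    have h1' : orderOf (g ^ t) = t' := by
      rw [orderOf_pow' _ htp.ne_zero, hg, Nat.gcd_eq_right (dvd_mul_right t t'),
        Nat.mul_div_cancel_left _ htp.pos]
    obtain ⟨k, -, ha, hb, hao, hbo, hc⟩ := pair_in hHH (Subgroup.mem_top (g ^ t')) (Subgroup.mem_top (g ^ t))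
      htp htp' h1 h1' ht ht' (pow_mul_comm g t' t)
    exact ⟨⟨_, ha⟩, ⟨_, hb⟩, by rw [Subgroup.orderOf_mk, hao], by rw [Subgroup.orderOf_mk, hbo],
      Subtype.ext hc⟩

end Cfsg.Agent.SpecTri
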