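import Cfsg.Agent.Lib.SpecTri.Groups

/-!
Groups without three pairwise commuting elements of distinct prime orders.
-/

set_option autoImplicit false

namespace Cfsg.Agent.SpecTri

universe u

variable {G : Type u} [Group G]

/-- No three pairwise commuting elements of distinct prime orders. -/
def NoTriple (G : Type u) [Group G] : Prop :=
  ∀ (t₁ t₂ t₃ : ℕ), t₁.Prime → t₂.Prime → t₃.Prime → t₁ ≠ t₂ → t₂ ≠ t₃ → t₁ ≠ t₃ →
    ∀ x y z : G, orderOf x = t₁ → orderOf y = t₂ → orderOf z = t₃ →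
      x * y = y * x → y * z = z * y → x * z = z * x → False

/-- The fixed points of `x` in `M`. -/
def fixIn (M : Subgroup G) (x : G) : Subgroup G := M ⊓ Subgroup.centralizer {x}

theorem mem_fixIn {M : Subgroup G} {x m : G} : m ∈ fixIn M x ↔ m ∈ M ∧ x * m = m * x := by
  rw [fixIn, Subgroup.mem_inf, Subgroup.mem_centralizer_singleton_iff]
  exact and_congr_right fun _ => eq_comm

theorem fixIn_le (M : Subgroup G) (x : G) : fixIn M x ≤ M := inf_le_left

theorem fixIn_ne_bot {M : Subgroup G} {x : G} (h : Fixes M x) : fixIn M x ≠ ⊥ := by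
  obtain ⟨m, hm, hm1, hc⟩ := h
  exact fun hb => hm1 ((Subgroup.eq_bot_iff_forall _).1 hb m (mem_fixIn.2 ⟨hm, hc⟩))

theorem normalizes_fixIn {M : Subgroup G} {x g : G} (hg : g ∈ Subgroup.normalizer (M : Set G))
    (hc : g * x = x * g) : g ∈ Subgroup.normalizer (fixIn M x : Set G) := by
  have hcc : ∀ h : G, h * x = x * h → ∀ m : G, x * m = m * x → x * (h * m * h⁻¹) = h * m * h⁻¹ * x := by
    intro h hh m hm
    have h1 : Commute x h := hh.symm
    exact ((h1.mul_right hm).mul_right h1.inv_right).eq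
  refine Subgroup.mem_normalizer_iff.2 fun m => ⟨fun hm => ?_, fun hm => ?_⟩
  · rw [mem_fixIn] at hm ⊢
    exact ⟨(Subgroup.mem_normalizer_iff.1 hg m).1 hm.1, hcc g hc m hm.2⟩
  · rw [mem_fixIn] at hm ⊢
    refine ⟨(Subgroup.mem_normalizer_iff.1 hg m).2 hm.1, ?_⟩
    have h := hcc g⁻¹ (show Commute g x from hc).inv_left.eq _ hm.2
    rwa [show g⁻¹ * (g * m * g⁻¹) * g⁻¹⁻¹ = m by group] at h

theorem fixes_mono {M N : Subgroup G} (h : M ≤ N) {x : G} (hf : Fixes M x) : Fixes N x := by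
  obtain ⟨m, hm, hm1, hc⟩ := hf
  exact ⟨m, h hm, hm1, hc⟩

theorem fixes_zpowers {M : Subgroup G} {x y : G} (hy : x ∈ Subgroup.zpowers y) (hf : Fixes M y) :
    Fixes M x := by
  obtain ⟨m, hm, hm1, hc⟩ := hf
  exact ⟨m, hm, hm1, (comm_of_zpowers hc.symm hy).symm⟩

theorem normalizer_le_centralizer {M : Subgroup G} {g : G}
    (hg : g ∈ Subgroup.normalizer (M : Set G)) {a : G} (ha : a ∈ Subgroup.centralizer (M : Set G)) :
    g * a * g⁻¹ ∈ Subgroup.centralizer (M : Set G) := by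
  refine Subgroup.mem_centralizer_iff.2 fun m hm => ?_
  have h := Subgroup.mem_centralizer_iff.1 ha _ ((Subgroup.mem_normalizer_iff''.1 hg m).1 hm)
  calc m * (g * a * g⁻¹) = g * ((g⁻¹ * m * g) * a) * g⁻¹ := by group
    _ = g * (a * (g⁻¹ * m * g)) * g⁻¹ := by rw [h]
    _ = g * a * g⁻¹ * m := by group

variable [Finite G]

theorem zpowers_eq_of_mem {t : ℕ} [Fact t.Prime] {a b : G} (ha : orderOf a = t) (hb : orderOf b = t)
    (h : a ∈ Subgroup.zpowers b) : b ∈ Subgroup.zpowers a := by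
  have he : Subgroup.zpowers a = Subgroup.zpowers b :=
    Subgroup.eq_of_le_of_card_ge (Subgroup.zpowers_le.2 h)
      (by rw [Nat.card_zpowers, Nat.card_zpowers, ha, hb])
  exact he ▸ Subgroup.mem_zpowers b

theorem card_pair_dvd {a b : G} (h : a * b = b * a) :
    Nat.card (Subgroup.zpowers a ⊔ Subgroup.zpowers b : Subgroup G) ∣ orderOf a * orderOf b := by
  have hnorm : Subgroup.zpowers b ≤ Subgroup.normalizer (Subgroup.zpowers a : Set G) := by
    refine Subgroup.zpowers_le.2 (Subgroup.centralizer_le_normalizer _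
      (Subgroup.mem_centralizer_iff.2 fun c hc => ?_))
    exact (comm_of_zpowers h.symm hc).symm
  have hcard := SolvBasic.card_sup_mul_card_inf hnorm
  rw [Nat.card_zpowers, Nat.card_zpowers] at hcard
  exact ⟨_, hcard.symm⟩

/-- Conjugates of a commuting pair inside a subgroup with the Hall property. -/
theorem pair_in {L K : Subgroup G} {S : Finset ℕ}
    (hL : ∀ U : Subgroup G, U ≤ K → PrimesIn S U → ∃ k ∈ K, ∀ u ∈ U, k * u * k⁻¹ ∈ L)
    {a b : G} (haK : a ∈ K) (hbK : b ∈ K) {t t' : ℕ} (ht : t.Prime) (ht' : t'.Prime)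
    (hta : orderOf a = t) (htb : orderOf b = t') (hS : t ∈ S) (hS' : t' ∈ S) (h : a * b = b * a) :
    ∃ k ∈ K, k * a * k⁻¹ ∈ L ∧ k * b * k⁻¹ ∈ L ∧ orderOf (k * a * k⁻¹) = t ∧
      orderOf (k * b * k⁻¹) = t' ∧ k * a * k⁻¹ * (k * b * k⁻¹) = k * b * k⁻¹ * (k * a * k⁻¹) := by
  obtain ⟨k, hk, hkL⟩ := hL (Subgroup.zpowers a ⊔ Subgroup.zpowers b)
    (sup_le (Subgroup.zpowers_le.2 haK) (Subgroup.zpowers_le.2 hbK)) fun u hu hd => by
    have hd := hd.trans (card_pair_dvd h)
    rw [hta, htb] at hd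
    rcases hu.dvd_mul.1 hd with hd | hd
    · exact (Nat.prime_dvd_prime_iff_eq hu ht).1 hd ▸ hS
    · exact (Nat.prime_dvd_prime_iff_eq hu ht').1 hd ▸ hS'
  refine ⟨k, hk, hkL _ (Subgroup.mem_sup_left (Subgroup.mem_zpowers a)),
    hkL _ (Subgroup.mem_sup_right (Subgroup.mem_zpowers b)), ?_, ?_, ?_⟩
  · rw [← MulAut.conj_apply, MulEquiv.orderOf_eq, hta]
  · rw [← MulAut.conj_apply, MulEquiv.orderOf_eq, htb]
  · rw [← MulAut.conj_apply, ← MulAut.conj_apply, ← map_mul, ← map_mul, h]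

/-- A plane inside a subgroup with the Hall property. -/
theorem plane_in {L K : Subgroup G} {S : Finset ℕ}
    (hL : ∀ U : Subgroup G, U ≤ K → PrimesIn S U → ∃ k ∈ K, ∀ u ∈ U, k * u * k⁻¹ ∈ L)
    {t : ℕ} (ht : t.Prime) (hS : t ∈ S) {Y : Subgroup G} (hYK : Y ≤ K) (hY : Plane t Y) :
    ∃ Y' : Subgroup G, Y' ≤ L ∧ Plane t Y' := by
  obtain ⟨k, -, hkL⟩ := hL Y hYK fun u hu hd => by
    rw [hY.1] at hd
    exact (Nat.prime_dvd_prime_iff_eq hu ht).1 (hu.dvd_of_dvd_pow hd) ▸ hS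
  refine ⟨Y.map (MulAut.conj k).toMonoidHom, ?_, ?_, ?_⟩
  · rintro _ ⟨y, hy, rfl⟩
    exact hkL y hy
  · rw [Subgroup.card_map_of_injective (MulAut.conj k).injective, hY.1]
  · rintro _ ⟨y, hy, rfl⟩
    rw [← map_pow, hY.2 y hy, map_one]

/-- A plane is not contained in a cyclic group. -/
theorem plane_not_le_cyclic {r : ℕ} [hr : Fact r.Prime] {E R : Subgroup G} (hE : Plane r E)
    (hR : IsCyclic R) : ∃ e ∈ E, orderOf e = r ∧ e ∉ R := by
  by_contra h
  push Not at h
  have hle : E ≤ R := fun e he => by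
    rcases eq_or_ne e 1 with rfl | h1
    · exact one_mem _
    · exact h e he (hE.orderOf_eq he h1)
  obtain ⟨a, ha, ha1⟩ : ∃ a ∈ E, a ≠ 1 := by
    suffices hb : E ≠ ⊥ by
      obtain ⟨⟨a, ha⟩, ha1⟩ := Subgroup.ne_bot_iff_exists_ne_one.1 hb
      exact ⟨a, ha, fun h => ha1 (Subtype.ext h)⟩
    intro hb
    have h1 := hE.1
    rw [hb, Subgroup.card_bot] at h1
    exact (Nat.one_lt_pow two_ne_zero hr.out.one_lt).ne h1
  have hle' : E ≤ Subgroup.zpowers a := fun e he => by
    rcases eq_or_ne e 1 with rfl | h1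
    · exact one_mem _
    · exact zpowers_eq_of_cyclic hR (hle ha) (hle he) (hE.orderOf_eq ha ha1) (hE.orderOf_eq he h1)
  have := Subgroup.card_le_of_le hle'
  rw [hE.1, Nat.card_zpowers, hE.orderOf_eq ha ha1] at this
  have := hr.out.two_le
  nlinarith

/-- Two commuting elements of different prime orders have no common fixed point. -/
theorem no_common (hT : NoTriple G) {p r s : ℕ} [Fact p.Prime] (hr : r.Prime) (hs : s.Prime)
    (hpr : p ≠ r) (hps : p ≠ s) (hrs : r ≠ s) {M : Subgroup G} (hM : IsPGroup p M) {x y : G}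
    (hx : orderOf x = r) (hy : orderOf y = s) (hxy : x * y = y * x) : ¬ Fixes (fixIn M x) y := by
  intro h
  obtain ⟨m, hm, hmo, hmc⟩ := fixes_order (hM.to_le (fixIn_le M x)) h
  exact hT r s p hr hs Fact.out hrs hps.symm hpr.symm x y m hx hy hmo hxy hmc (mem_fixIn.1 hm).2

/-- A paired element fixing points of both groups gives a triangle. -/
theorem fix_fix_false (hT : NoTriple G) {p q r s : ℕ} [Fact p.Prime] [Fact q.Prime] (hr : r.Prime)
    (hs : s.Prime) (hpq : p ≠ q) (hpr : p ≠ r) (hps : p ≠ s) (hqr : q ≠ r) (hqs : q ≠ s) (hrs : r ≠ s)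
    {A M : Subgroup G} (hA : IsPGroup q A) (hM : IsPGroup p M)
    (hAM : A ≤ Subgroup.normalizer (M : Set G)) {x y : G} (hx : orderOf x = r) (hy : orderOf y = s)
    (hxy : x * y = y * x) (hyA : y ∈ Subgroup.normalizer (A : Set G))
    (hyM : y ∈ Subgroup.normalizer (M : Set G)) (hfA : Fixes A x) (hfM : Fixes M x) : False := by
  obtain ⟨a, ha, hao, hac⟩ := fixes_order hA hfA
  obtain ⟨m, hm, hmo, hmc⟩ := fixes_order hM hfM
  obtain ⟨e, he⟩ := (hA.to_le (fixIn_le A x)).exists_card_eq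
  have h : fixIn A x ≤ Subgroup.centralizer (fixIn M x : Set G) :=
    frob_prime hs hps.symm (fixIn A x) (fixIn M x) y hy (normalizes_fixIn hyA hxy.symm)
      (normalizes_fixIn hyM hxy.symm)
      (fun g hg => normalizes_fixIn (hAM (fixIn_le A x hg)) (mem_fixIn.1 hg).2.symm)
      (hM.to_le (fixIn_le M x)) (he ▸ ((Nat.coprime_primes Fact.out Fact.out).2 hpq.symm).pow_left e)
      (no_common hT hr hs hqr hqs hrs hA hx hy hxy) (no_common hT hr hs hpr hps hrs hM hx hy hxy)
  exact hT r q p hr Fact.out Fact.out hqr.symm hpq.symm hpr.symm x a m hx hao hmo hac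
    (Subgroup.mem_centralizer_iff.1 (h (mem_fixIn.2 ⟨ha, hac⟩)) m (mem_fixIn.2 ⟨hm, hmc⟩)).symm hmc

/-- A commuting pair without fixed points on a faithful kernel. -/
theorem fpf_fpf_trivial (hT : NoTriple G) {p q r s : ℕ} [Fact p.Prime] [Fact q.Prime] (hr : r.Prime)
    (hs : s.Prime) (hpq : p ≠ q) (hpr : p ≠ r) (hps : p ≠ s) (hrs : r ≠ s)
    {A M : Subgroup G} (hA : IsPGroup q A) (hM : IsPGroup p M)
    (hAM : A ≤ Subgroup.normalizer (M : Set G)) {x y : G} (hx : orderOf x = r) (hy : orderOf y = s)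
    (hxy : x * y = y * x) (hxA : x ∈ Subgroup.normalizer (A : Set G))
    (hyA : y ∈ Subgroup.normalizer (A : Set G)) (hxM : x ∈ Subgroup.normalizer (M : Set G))
    (hyM : y ∈ Subgroup.normalizer (M : Set G)) (hfx : ¬ Fixes A x) (hfy : ¬ Fixes A y) :
    A ≤ Subgroup.centralizer (M : Set G) := by
  have hc : Commute x y := hxy
  have hord : orderOf (x * y) = r * s := by
    rw [hc.orderOf_mul_eq_mul_orderOf_of_coprime (by rw [hx, hy]; exact (Nat.coprime_primes hr hs).2 hrs), hx, hy]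
  obtain ⟨e, he⟩ := hA.exists_card_eq
  have hxpow : x ∈ Subgroup.zpowers (x * y) := by
    have h : (x * y) ^ s = x ^ s := by rw [hc.mul_pow, ← hy, pow_orderOf_eq_one, mul_one]
    obtain ⟨k, hk⟩ := exists_pow_eq_self_of_coprime (x := x) (n := s)
      (by rw [hx]; exact (Nat.coprime_primes hs hr).2 hrs.symm)
    have hm := Subgroup.pow_mem _ (Subgroup.mem_zpowers (x * y)) (s * k)
    rw [pow_mul, h, hk] at hm
    exact hm
  have hypow : y ∈ Subgroup.zpowers (x * y) := by
    have h : (x * y) ^ r = y ^ r := by rw [hc.mul_pow, ← hx, pow_orderOf_eq_one, one_mul]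
    obtain ⟨k, hk⟩ := exists_pow_eq_self_of_coprime (x := y) (n := r)
      (by rw [hy]; exact (Nat.coprime_primes hr hs).2 hrs)
    have hm := Subgroup.pow_mem _ (Subgroup.mem_zpowers (x * y)) (r * k)
    rw [pow_mul, h, hk] at hm
    exact hm
  refine frob A M (x * y) (mul_mem hxA hyA) (mul_mem hxM hyM) hAM hM
    (he ▸ ((Nat.coprime_primes Fact.out Fact.out).2 hpq.symm).pow_left e)
    (hord ▸ Nat.Coprime.mul_left ((Nat.coprime_primes hr Fact.out).2 hpr.symm)
      ((Nat.coprime_primes hs Fact.out).2 hps.symm)) ?_ ?_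
  · intro i hi hin a ha hca
    rw [hord] at hin
    have hgen : ∀ j : ℕ, Commute ((x * y) ^ (i * j)) a := fun j => by
      rw [pow_mul]; exact (show Commute ((x * y) ^ i) a from hca).pow_left j
    by_cases hri : r ∣ i
    · have hsi : ¬ s ∣ i := fun hsi => absurd (Nat.le_of_dvd hi
        (((Nat.coprime_primes hr hs).2 hrs).mul_dvd_of_dvd_of_dvd hri hsi)) (not_le.2 hin)
      obtain ⟨k, hk⟩ := exists_pow_eq_self_of_coprime (x := y) (n := i)
        (by rw [hy]; exact (hs.coprime_iff_not_dvd.2 hsi).symm)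
      obtain ⟨d, rfl⟩ := hri
      refine eq_one_of_not_fixes hfy ha ?_
      rw [← hk]
      have h : (x * y) ^ (r * d * k) = (y ^ (r * d)) ^ k := by
        rw [hc.mul_pow, mul_assoc, pow_mul x, ← hx, pow_orderOf_eq_one, one_pow, one_mul, ← mul_assoc,
          pow_mul, hx]
      exact h ▸ hgen k
    · obtain ⟨k, hk⟩ := exists_pow_eq_self_of_coprime (x := x) (n := i * s)
        (by
          rw [hx]
          exact Nat.Coprime.mul_left (hr.coprime_iff_not_dvd.2 hri).symm
            ((Nat.coprime_primes hs hr).2 hrs.symm))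
      refine eq_one_of_not_fixes hfx ha ?_
      rw [← hk]
      have h : (x * y) ^ (i * (s * k)) = (x ^ (i * s)) ^ k := by
        rw [hc.mul_pow, ← pow_mul, mul_left_comm i s k, pow_mul y, ← hy, pow_orderOf_eq_one, one_pow,
          mul_one, hy, mul_left_comm s i k, ← mul_assoc]
      exact h ▸ hgen (s * k)
  · intro hf
    obtain ⟨m, hm, hm1, hmc⟩ := hf
    exact no_common hT hr hs hpr hps hrs hM hx hy hxy
      ⟨m, mem_fixIn.2 ⟨hm, (comm_of_zpowers hmc.symm hxpow).symm⟩, hm1,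
        (comm_of_zpowers hmc.symm hypow).symm⟩

/-- The commutator with a fixed point free operator vanishes on a faithful group. -/
theorem commute_of_fpf {p r s : ℕ} [Fact p.Prime] (hr : r.Prime) (hs : s.Prime) (hpr : p ≠ r)
    (hps : p ≠ s) (hrs : r ≠ s) (hr2 : r ≠ 2) {A M : Subgroup G} {x : G} (hx : orderOf x = s)
    (hA : IsPGroup r A) (hxA : x ∈ Subgroup.normalizer (A : Set G))
    (hxM : x ∈ Subgroup.normalizer (M : Set G)) (hAM : A ≤ Subgroup.normalizer (M : Set G))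
    (hM : IsPGroup p M) (hMx : ¬ Fixes M x)
    (hfaith : ∀ a ∈ A, a ∈ Subgroup.centralizer (M : Set G) → a = 1) : ∀ a ∈ A, x * a = a * x := by
  have h := odd_centralizes hr hs hpr hps hrs hr2 A M x hx hA hxA hxM hAM hM hMx
  intro a ha
  have hb : ⁅A, Subgroup.zpowers x⁆ = ⊥ := (Subgroup.eq_bot_iff_forall _).2 fun c hc =>
    hfaith c (CoprimeAct.commutator_le_left (Subgroup.zpowers_le.2 hxA) hc) (h hc)
  exact Subgroup.mem_centralizer_iff.1
    (Subgroup.commutator_eq_bot_iff_le_centralizer.1 hb ha) x (Subgroup.mem_zpowers x)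

/-- An involution without fixed points inverts. -/
theorem inverts {M : Subgroup G} {e : G} (he : e * e = 1) (hn : e ∈ Subgroup.normalizer (M : Set G))
    (hf : ¬ Fixes M e) : ∀ m ∈ M, e * m * e⁻¹ = m⁻¹ := by
  let φ : M →* M :=
    { toFun := fun c => ⟨e * (c : G) * e⁻¹, conj_mem hn c.2⟩
      map_one' := Subtype.ext (by simp)
      map_mul' := fun a b => Subtype.ext (by simp [mul_assoc]) }
  have hinv : Function.Involutive φ := fun c => Subtype.ext (by
    show e * (e * (c : G) * e⁻¹) * e⁻¹ = c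
    rw [show e * (e * (c : G) * e⁻¹) * e⁻¹ = (e * e) * c * (e * e)⁻¹ by group, he]
    simp)
  have hfp : MonoidHom.FixedPointFree φ := fun c hc => Subtype.ext
    (eq_one_of_not_fixes hf c.2 (mul_inv_eq_iff_eq_mul.1 (congrArg Subtype.val hc)))
  intro m hm
  exact congrArg Subtype.val (congrFun (hfp.coe_eq_inv_of_involutive hinv) ⟨m, hm⟩)

/-- An operator commutes with an inverting involution modulo the kernel. -/
theorem comm_mem_centralizer {M : Subgroup G} {e y : G} (he : ∀ m ∈ M, e * m * e⁻¹ = m⁻¹)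
    (hy : y ∈ Subgroup.normalizer (M : Set G)) :
    e * y * e⁻¹ * y⁻¹ ∈ Subgroup.centralizer (M : Set G) := by
  refine Subgroup.mem_centralizer_iff.2 fun m hm => ?_
  have h1 : y⁻¹ * m * y ∈ M := (Subgroup.mem_normalizer_iff''.1 hy m).1 hm
  have e1 : ∀ u ∈ M, e⁻¹ * u * e = u⁻¹ := fun u hu => by
    have h := he _ (inv_mem hu)
    rw [inv_inv] at h
    calc e⁻¹ * u * e = e⁻¹ * (e * u⁻¹ * e⁻¹) * e := by rw [h]
      _ = u⁻¹ := by group
  have h3 : (e * y * e⁻¹ * y⁻¹)⁻¹ * m * (e * y * e⁻¹ * y⁻¹) = m := by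
    calc (e * y * e⁻¹ * y⁻¹)⁻¹ * m * (e * y * e⁻¹ * y⁻¹)
        = y * (e * (y⁻¹ * (e⁻¹ * m * e) * y) * e⁻¹) * y⁻¹ := by group
      _ = y * (e * (y⁻¹ * m * y)⁻¹ * e⁻¹) * y⁻¹ := by rw [e1 m hm]; group
      _ = y * (y⁻¹ * m * y) * y⁻¹ := by rw [he _ (inv_mem h1), inv_inv]
      _ = m := by group
  calc m * (e * y * e⁻¹ * y⁻¹)
      = e * y * e⁻¹ * y⁻¹ * ((e * y * e⁻¹ * y⁻¹)⁻¹ * m * (e * y * e⁻¹ * y⁻¹)) := by group
    _ = e * y * e⁻¹ * y⁻¹ * m := by rw [h3]

/-- No element of prime order centralises elements of three other prime orders. -/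
theorem no_centre_of_three [Group.IsSolvable G] (hT : NoTriple G) {a b c d : ℕ} (hd : d.Prime)
    (ha : a.Prime) (hb : b.Prime) (hc : c.Prime) (hda : d ≠ a) (hdb : d ≠ b) (hdc : d ≠ c)
    (hab : a ≠ b) (hac : a ≠ c) (hbc : b ≠ c) {z : G} (hz : orderOf z = d)
    (hea : ∃ x, orderOf x = a ∧ z * x = x * z) (heb : ∃ x, orderOf x = b ∧ z * x = x * z)
    (hec : ∃ x, orderOf x = c ∧ z * x = x * z) : False := by
  classical
  obtain ⟨X, hXC, hXS, hXH⟩ := exists_hall_primes (Subgroup.centralizer {z}) ({a, b, c} : Finset ℕ)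
  have hXz : ∀ x ∈ X, z * x = x * z := fun x hx =>
    (Subgroup.mem_centralizer_singleton_iff.1 (hXC hx)).symm
  have hne : ∀ (t t' : ℕ), t.Prime → t'.Prime → t ≠ t' → d ≠ t → d ≠ t' → ∀ x ∈ X, ∀ y ∈ X,
      orderOf x = t → orderOf y = t' → x * y ≠ y * x := fun t t' ht ht' htt htd htd' x hx y hy hxo hyo h =>
    hT d t t' hd ht ht' htd htt htd' z x y hz hxo hyo (hXz x hx) h (hXz y hy)
  have hex : ∀ t ∈ ({a, b, c} : Finset ℕ), ∃ x ∈ X, orderOf x = t := by
    intro t ht
    obtain ⟨x, hx, hxc⟩ : ∃ x, orderOf x = t ∧ z * x = x * z := by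
      simp only [Finset.mem_insert, Finset.mem_singleton] at ht
      rcases ht with rfl | rfl | rfl <;> assumption
    have htp : t.Prime := by
      simp only [Finset.mem_insert, Finset.mem_singleton] at ht
      rcases ht with rfl | rfl | rfl <;> assumption
    obtain ⟨k, -, hk⟩ := hXH (Subgroup.zpowers x)
      (Subgroup.zpowers_le.2 (Subgroup.mem_centralizer_singleton_iff.2 hxc.symm)) fun u hu hd => by
      rw [Nat.card_zpowers, hx] at hd
      exact (Nat.prime_dvd_prime_iff_eq hu htp).1 hd ▸ ht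
    exact ⟨_, hk x (Subgroup.mem_zpowers x), by rw [← MulAut.conj_apply, MulEquiv.orderOf_eq, hx]⟩
  have hcore : ∀ (W : Subgroup G) (S : Finset ℕ), PrimesIn S W → ∀ (t : ℕ), t.Prime →
      (∃ x ∈ W, orderOf x = t) → ∃ u ∈ S, u.Prime ∧ core u W ≠ ⊥ := by
    intro W S hW t ht ⟨x, hxW, hxo⟩
    by_contra hall
    push Not at hall
    have := Fact.mk ht
    have hx := mem_core_of_central hxW hxo (core_commute_all hW fun u hu hup m hm => by
      rw [hall u hu hup, Subgroup.mem_bot] at hm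
      rw [hm, mul_one, one_mul])
    have hbot : core t W = ⊥ := by
      by_cases hdv : t ∣ Nat.card W
      · exact hall t (hW t ht hdv) ht
      · exact core_eq_bot_of_not_dvd ht hdv
    rw [hbot, Subgroup.mem_bot] at hx
    rw [hx, orderOf_one] at hxo
    exact ht.ne_one hxo.symm
  have main : ∀ {t u v : ℕ}, t.Prime → u.Prime → v.Prime → t ≠ u → t ≠ v → u ≠ v → d ≠ t → d ≠ u →
      d ≠ v → (∃ x ∈ X, orderOf x = u) → (∃ x ∈ X, orderOf x = v) → core t X ≠ ⊥ → False := by
    intro t u v ht hu hv htu htv huv hdt hdu hdv hxu hxv hcne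
    obtain ⟨T, hTX, hTS, hTH⟩ := exists_hall_primes X ({u, v} : Finset ℕ)
    have hexT : ∀ {w : ℕ}, w.Prime → w ∈ ({u, v} : Finset ℕ) → (∃ x ∈ X, orderOf x = w) →
        ∃ x ∈ T, orderOf x = w := fun {w} hw hwS ⟨x, hxX, hx⟩ => by
      obtain ⟨k, -, hk⟩ := hTH (Subgroup.zpowers x) (Subgroup.zpowers_le.2 hxX) fun i hi hd => by
        rw [Nat.card_zpowers, hx] at hd
        exact (Nat.prime_dvd_prime_iff_eq hi hw).1 hd ▸ hwS
      exact ⟨_, hk x (Subgroup.mem_zpowers x), by rw [← MulAut.conj_apply, MulEquiv.orderOf_eq, hx]⟩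
    have inner : ∀ {w w' : ℕ}, w.Prime → w'.Prime → w ≠ w' → t ≠ w → t ≠ w' → d ≠ w → d ≠ w' →
        (∃ x ∈ T, orderOf x = w') → core w T ≠ ⊥ → False := by
      intro w w' hw hw' hww htw htw' hdw hdw' ⟨g, hgT, hgo⟩ hcw
      have := Fact.mk hw
      have := Fact.mk ht
      obtain ⟨e, he⟩ := (core_isPGroup w T).exists_card_eq
      have hle := frob_prime hw' htw'.symm (core w T) (core t X) g hgo (le_normalizer_core w T hgT)
        (le_normalizer_core t X (hTX hgT))
        ((core_le w T).trans (hTX.trans (le_normalizer_core t X))) (core_isPGroup t X)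
        (he ▸ ((Nat.coprime_primes hw ht).2 htw.symm).pow_left e)
        (fun hf => by
          obtain ⟨m, hm, hmo, hmc⟩ := fixes_order (core_isPGroup w T) hf
          exact hne w' w hw' hw hww.symm hdw' hdw g (hTX hgT) m (hTX (core_le w T hm)) hgo hmo hmc)
        (fun hf => by
          obtain ⟨m, hm, hmo, hmc⟩ := fixes_order (core_isPGroup t X) hf
          exact hne w' t hw' ht htw'.symm hdw' hdt g (hTX hgT) m (core_le t X hm) hgo hmo hmc)
      obtain ⟨m, hm, hmo⟩ := exists_prime_elt (core_isPGroup w T) hcw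
      obtain ⟨n, hn, hno⟩ := exists_prime_elt (core_isPGroup t X) hcne
      exact hne t w ht hw htw hdt hdw n (core_le t X hn) m (hTX (core_le w T hm)) hno hmo
        (Subgroup.mem_centralizer_iff.1 (hle hm) n hn)
    have hTu := hexT hu (by simp) hxu
    have hTv := hexT hv (by simp) hxv
    obtain ⟨w, hwS, -, hcw⟩ := hcore T _ hTS u hu hTu
    simp only [Finset.mem_insert, Finset.mem_singleton] at hwS
    rcases hwS with rfl | rfl
    · exact inner hu hv huv htu htv hdu hdv hTv hcw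
    · exact inner hv hu huv.symm htv htu hdv hdu hTu hcw
  obtain ⟨t, htS, -, hct⟩ := hcore X _ hXS a ha (hex a (by simp))
  simp only [Finset.mem_insert, Finset.mem_singleton] at htS
  rcases htS with rfl | rfl | rfl
  · exact main ha hb hc hab hac hbc hda hdb hdc (hex _ (by simp)) (hex _ (by simp)) hct
  · exact main hb ha hc hab.symm hbc hac hdb hda hdc (hex _ (by simp)) (hex _ (by simp)) hct
  · exact main hc ha hb hac.symm hbc.symm hab hdc hda hdb (hex _ (by simp)) (hex _ (by simp)) hct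

/-- Every Sylow subgroup contains a plane. -/
theorem exists_plane_prime [Group.IsSolvable G] (hT : NoTriple G) {a b c d : ℕ} (hd : d.Prime)
    (ha : a.Prime) (hb : b.Prime) (hc : c.Prime) (hda : d ≠ a) (hdb : d ≠ b) (hdc : d ≠ c)
    (hab : a ≠ b) (hac : a ≠ c) (hbc : b ≠ c)
    (hpair : ∀ t ∈ ({a, b, c} : Finset ℕ), ∃ x y : G, orderOf x = d ∧ orderOf y = t ∧ x * y = y * x) :
    ∃ Y : Subgroup G, Plane d Y := by
  have := Fact.mk hd
  by_contra hno
  push Not at hno
  obtain ⟨S⟩ : Nonempty (Sylow d G) := inferInstance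
  obtain ⟨x₀, -, hx₀, -, -⟩ := hpair a (by simp)
  have hSne : (S : Subgroup G) ≠ ⊥ := by
    intro hbot
    obtain ⟨g, hg⟩ := IsPGroup.exists_le_sylow
      (IsPGroup.of_card (n := 1) (by rw [Nat.card_zpowers, hx₀, pow_one]) : IsPGroup d (Subgroup.zpowers x₀))
    obtain ⟨k, hk⟩ := MulAction.exists_smul_eq G g S
    have h1 : Nat.card g = 1 := by
      rw [← hk] at hbot
      have := Nat.card_congr (g.equiv S).toEquiv
      rw [this, ← hk]
      exact Subgroup.card_eq_one.2 hbot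
    have h2 := Subgroup.card_le_of_le hg
    rw [Nat.card_zpowers, hx₀] at h2
    have := hd.two_le
    have h3 : Nat.card (g : Subgroup G) = 1 := h1
    omega
  have hnt : Nontrivial S := (Subgroup.nontrivial_iff_ne_bot _).2 hSne
  have hcn := S.isPGroup'.center_nontrivial
  obtain ⟨z, hz, hzo⟩ := exists_prime_elt (p := d) (M := (Subgroup.center S).map (S : Subgroup G).subtype)
    ((S.isPGroup'.to_subgroup _).map _) (fun h => by
      obtain ⟨⟨w, hw⟩, hw1⟩ := exists_ne (1 : Subgroup.center S)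
      have h2 := Subgroup.mem_map_of_mem (S : Subgroup G).subtype hw
      rw [h, Subgroup.mem_bot] at h2
      exact hw1 (Subtype.ext (Subtype.ext h2)))
  obtain ⟨z, hzc, rfl⟩ := hz
  have hS : ∀ w ∈ (S : Subgroup G), orderOf w = d → w ∈ Subgroup.zpowers (z : G) := by
    intro w hw hwo
    by_contra hne
    exact hno _ (plane_of_pair hzo hwo
      (congrArg Subtype.val (Subgroup.mem_center_iff.1 hzc ⟨w, hw⟩)).symm hne)
  have key : ∀ t ∈ ({a, b, c} : Finset ℕ), ∃ x, orderOf x = t ∧ (z : G) * x = x * z := by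
    intro t ht
    obtain ⟨x, y, hx, hy, hxy⟩ := hpair t ht
    obtain ⟨P, hP⟩ := IsPGroup.exists_le_sylow
      (IsPGroup.of_card (n := 1) (by rw [Nat.card_zpowers, hx, pow_one]) : IsPGroup d (Subgroup.zpowers x))
    obtain ⟨k, hk⟩ := MulAction.exists_smul_eq G P S
    have hxS : k * x * k⁻¹ ∈ (S : Subgroup G) := by
      rw [← hk]
      exact ⟨x, hP (Subgroup.mem_zpowers x), rfl⟩
    have hzx : (z : G) ∈ Subgroup.zpowers (k * x * k⁻¹) :=
      zpowers_eq_of_mem (by rw [← MulAut.conj_apply, MulEquiv.orderOf_eq, hx]) hzo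
        (hS _ hxS (by rw [← MulAut.conj_apply, MulEquiv.orderOf_eq, hx]))
    refine ⟨k * y * k⁻¹, by rw [← MulAut.conj_apply, MulEquiv.orderOf_eq, hy], ?_⟩
    exact (comm_of_zpowers (by
      rw [← MulAut.conj_apply, ← MulAut.conj_apply, ← map_mul, ← map_mul, hxy]) hzx).symm
  exact no_centre_of_three hT hd ha hb hc hda hdb hdc hab hac hbc hzo (key a (by simp))
    (key b (by simp)) (key c (by simp))

end Cfsg.Agent.SpecTri
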